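import Cfsg.Agent.FT.Base.BG1
import Mathlib.RingTheory.LittleWedderburn

/-! Generalities for the study of character degree graphs of solvable groups: small lemmas. -/

set_option autoImplicit false
set_option linter.unusedSectionVars false
set_option linter.style.haveILetI false

namespace Cfsg.FT.Deg

open scoped Pointwise commutatorElement
open Subgroup

theorem pow_eq_of_count {s n a b x y : ℕ} (hs : 1 < s) (hn : 1 < n) (hx : 0 < x) (hy : 0 < y)
    (h1 : s ^ x - 1 = (s ^ a - 1) * n) (h2 : s ^ y - 1 = (s ^ b - 1) * n) : a = b ∧ x = y := by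
  have key : ∀ {a x : ℕ}, 0 < x → s ^ x - 1 = (s ^ a - 1) * n →
      (n : ℤ) - 1 = s ^ a * n - s ^ x ∧ 0 < a ∧ a < x := by
    intro a x hx h
    have h3 := Nat.one_le_pow a s (by omega)
    have h4 := Nat.one_lt_pow hx.ne' hs
    have ha : 0 < a := Nat.pos_of_ne_zero (by rintro rfl; simp at h; omega)
    have h5 := Nat.one_lt_pow ha.ne' hs
    refine ⟨?_, ha, (Nat.pow_lt_pow_iff_right hs).1 ?_⟩
    · zify [h3, h4.le] at h; linarith
    · have : (s ^ a - 1) * 2 ≤ (s ^ a - 1) * n := Nat.mul_le_mul_left _ hn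
      omega
  have key2 : ∀ {a b x y : ℕ}, 0 < x → 0 < y → s ^ x - 1 = (s ^ a - 1) * n →
      s ^ y - 1 = (s ^ b - 1) * n → ¬ a < b := by
    intro a b x y hx hy h1 h2 hab
    obtain ⟨e1, ha, hax⟩ := key hx h1
    obtain ⟨e2, -, hby⟩ := key hy h2
    have d1 : (s : ℤ) ^ (a + 1) ∣ n - 1 := e2 ▸ dvd_sub ((pow_dvd_pow _ hab).mul_right _)
      (pow_dvd_pow _ (by omega))
    have d2 : (s : ℤ) ^ (a + 1) ∣ s ^ a * n := by
      rw [show (s : ℤ) ^ a * n = n - 1 + s ^ x by linarith]; exact dvd_add d1 (pow_dvd_pow _ hax)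
    rw [pow_succ, mul_dvd_mul_iff_left (by positivity)] at d2
    have d3 : (s : ℤ) ∣ 1 := by
      simpa using dvd_sub d2 ((dvd_pow_self _ (Nat.succ_ne_zero a)).trans d1)
    have := Int.le_of_dvd one_pos d3
    omega
  obtain rfl : a = b := le_antisymm (not_lt.1 (key2 hy hx h2 h1)) (not_lt.1 (key2 hx hy h1 h2))
  refine ⟨rfl, Nat.pow_right_injective hs ?_⟩
  have := Nat.one_lt_pow hx.ne' hs
  have := Nat.one_lt_pow hy.ne' hs
  simp only; omega

variable {G : Type*} [Group G] [Finite G] {A B E H K L N P R T V W X Y Z : Subgroup G} {p : ℕ}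
  {g v w x y : G}

theorem relIndex_cent1_le {S : Set G} (h : ∀ g ∈ L, g * x * g⁻¹ ∈ S) :
    𝐂₁[x].relIndex L ≤ S.ncard := by
  have h1 : NormedTI {x} L (L ⊓ 𝐂₁[x]) := ⟨⟨x, rfl⟩, inf_le_left, by
    rintro _ rfl g hg
    rw [Set.mem_singleton_iff, mul_inv_eq_iff_eq_mul, mem_inf, mem_cent1]; simp [hg]⟩
  have h2 := card_support_normedTI h1
  rw [Set.ncard_singleton, one_mul, inf_comm, inf_relIndex_right] at h2
  exact h2 ▸ Set.ncard_le_ncard (by rintro _ ⟨_, rfl, g, hg, rfl⟩; exact h g hg)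

theorem ncard_nz' (H : Subgroup G) : (nz H).ncard = Nat.card H - 1 := by
  rw [nz, Set.ncard_sdiff_singleton_of_mem (one_mem H)]; rfl

theorem cents_of_card_le [hp : Fact p.Prime] (hR : IsPGroup p R) (hn : R ≤ 𝐍[X])
    (h : Nat.card X ≤ p) : R ≤ 𝐂[X] := by
  refine centsC.1 fun x hx => le_cent1.1 ?_
  by_contra h1
  have h2 := relIndex_cent1_le (L := R) (x := x) (S := nz X) fun g hg =>
    ⟨(memJ_norm (hn hg)).2 hx, fun e => h1 (by rw [conj_eq_one_iff.1 e, cent1_one]; exact le_top)⟩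
  have h3 := Nat.le_of_dvd (relIndex_pos _ _) (dvd_relIndex_of_pgroup hR h1)
  have := hp.out.pos
  rw [ncard_nz'] at h2
  omega

/-- Thompson's critical subgroup -/
theorem critical_any [hp : Fact p.Prime] (hR : IsPGroup p R) :
    ∃ K, K ≤ R ∧ 𝐍[R] ≤ 𝐍[K] ∧ ⁅K, R⁆ ≤ 𝐙[K] ∧ (∀ x ∈ K, x ^ p ∈ 𝐙[K]) ∧ R ⊓ 𝐂[K] ≤ K := by
  obtain ⟨Z, ⟨h1, h3, h4⟩, hm⟩ := (wellFounded_gt (α := Subgroup G)).has_min
    {N | N ≤ R ∧ IsMulCommutative N ∧ 𝐍[R] ≤ 𝐍[N]} ⟨⊥, bot_le, abelian_bot, norms1 _⟩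
  have hRZ : R ≤ 𝐍[Z] := (normG R).trans h4
  set K := (R ⊓ 𝐂[Z]) ⊓ pre Z (Ohm1 p 𝐙[R ⁄ Z]) with hK
  have hKR : K ≤ R := inf_le_left.trans inf_le_left
  have hKZ : K ≤ 𝐂[Z] := inf_le_left.trans inf_le_right
  have hZK : Z ≤ K := le_inf (le_inf h1 (abelian_iff.1 h3)) (sub_cosetpre _)
  have hKn : 𝐍[R] ≤ 𝐍[K] := normsI (normsI le_rfl (norms_cent h4))
    (norms_pre h4 (norms_Ohm1 p (norms_center (quotient_norms Z le_rfl))))
  have h5 : ⁅K, R⁆ ≤ Z := (quotient_cents2 (hKR.trans hRZ) hRZ).1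
    (((sub_quotient_pre (hKR.trans hRZ)).2 inf_le_right).trans ((Ohm_sub _ _).trans inf_le_right))
  have h6 : ∀ x ∈ K, x ^ p ∈ Z := fun x hx => by
    rw [← coset_eq_one_iff (pow_mem (mem_pre.1 hx.2).1 _), coset_pow (mem_pre.1 hx.2).1]
    exact BG4P.Ohm1_exp_of_abelian (center_abelian _) _ (mem_pre.1 hx.2).2
  have h7 : Z = 𝐙[K] := (le_inf hZK (centsC.1 hKZ)).eq_or_lt.resolve_right
    (hm _ ⟨inf_le_left.trans hKR, center_abelian K, norms_center hKn⟩)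
  refine ⟨K, hKR, hKn, h7 ▸ h5, h7 ▸ h6, ?_⟩
  have h9 : Z ≤ R ⊓ 𝐂[K] := le_inf h1 (centsC.1 hKZ)
  rcases h9.eq_or_lt with e | e
  · exact e.ge.trans hZK
  obtain ⟨L, a1, a2, a3, a4, a5⟩ := BG4P.exists_normal_step hR ⟨h1, hRZ⟩
    (subcent_normal' ((normG R).trans hKn)) e
  have a6 : L ≤ K := le_inf (le_inf a1.le (a3.trans (inf_le_right.trans (centS hZK))))
    fun x hx => mem_pre.2 ⟨hRZ (a1.le hx), mem_Ohm1
      ⟨mem_quotient Z (a1.le hx), quotient_cents2r a5 (mem_quotient Z hx)⟩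
      (by rw [← coset_pow (hRZ (a1.le hx)),
        coset_id (a4 ▸ BG4P.pow_relIndex_mem' (a1.le.trans hRZ) hx)])⟩
  rw [relIndex_eq_one.2 (h7 ▸ le_inf a6 (a3.trans inf_le_right))] at a4
  exact absurd a4 hp.out.one_lt.ne

/-- Schur + Wedderburn: the centralizer of an irreducible group of operators acts commutatively -/
theorem commg_cent_of_irr (ha : IsMulCommutative V) (hL : L ≤ 𝐍[V]) (hX : X ≤ 𝐍[V])
    (hi : ∀ W ≤ V, L ≤ 𝐍[W] → W = ⊥ ∨ W = V) (hc : X ≤ 𝐂[L]) : ⁅X, X⁆ ≤ 𝐂[V] := by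
  by_cases h0 : V = ⊥
  · rw [h0]; exact cents1 _
  letI : CommGroup V := { (inferInstance : Group V) with mul_comm := ha.is_comm.comm }
  let ρ : 𝐍[V] → AddMonoid.End (Additive V) := fun g =>
    MonoidHom.toAdditive (V.normalizerMonoidHom g).toMonoidHom
  have hρ : ∀ (g : 𝐍[V]) (v : Additive V), ((ρ g v).toMul : G) = g * v.toMul * (g : G)⁻¹ :=
    fun g v => rfl
  let D := Subring.centralizer (ρ '' {g | (g : G) ∈ L})
  have hinj : ∀ a : D, a ≠ 0 → ∀ v, a.1 v = 0 → v = 0 := fun a ha0 v hv => by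
    let W : Subgroup G := (AddSubgroup.toSubgroup a.1.ker).map V.subtype
    rcases hi W (map_subtype_le _) (normsP.2 (by
      rintro g hg _ ⟨u, hu, rfl⟩
      refine ⟨(ρ ⟨g, hL hg⟩ (Additive.ofMul u)).toMul, ?_, rfl⟩
      have := DFunLike.congr_fun (a.2 _ ⟨⟨g, hL hg⟩, hg, rfl⟩) (Additive.ofMul u)
      change ρ _ (a.1 _) = a.1 (ρ _ _) at this
      change a.1 (ρ _ _) = 0
      rw [← this, show a.1 (Additive.ofMul u) = 0 from hu, map_zero])) with e | e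
    · exact Subtype.ext (mem_bot.1 (e ▸ (⟨v.toMul, hv, rfl⟩ : _ ∈ W)))
    · refine absurd (Subtype.ext (AddMonoidHom.ext fun u => ?_)) ha0
      obtain ⟨u', hu, e'⟩ : (u.toMul : G) ∈ W := e.ge u.toMul.2
      rw [show u' = u.toMul from Subtype.ext e'] at hu
      exact hu
  haveI : Nontrivial V := (nontrivial_iff_ne_bot V).2 h0
  haveI : NoZeroDivisors D := ⟨fun {a b} e => by
    by_cases ha0 : a = 0
    · exact .inl ha0
    exact .inr (Subtype.ext (AddMonoidHom.ext fun u =>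
      hinj a ha0 _ (DFunLike.congr_fun (congrArg Subtype.val e) u)))⟩
  haveI : Nontrivial D := ⟨0, 1, fun e => by
    obtain ⟨u, hu⟩ := exists_ne (0 : Additive V)
    exact hu (DFunLike.congr_fun (congrArg Subtype.val e) u).symm⟩
  haveI : IsDomain D := NoZeroDivisors.to_isDomain D
  haveI : Finite (AddMonoid.End (Additive V)) :=
    Finite.of_injective (fun f : Additive V →+ Additive V => (f : Additive V → Additive V))
      DFunLike.coe_injective
  have hm : ∀ x (hx : x ∈ X), ρ ⟨x, hX hx⟩ ∈ D := by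
    rintro x hx _ ⟨g, hg, rfl⟩
    refine AddMonoidHom.ext fun u => Additive.toMul.injective (Subtype.ext ?_)
    change ((ρ _ (ρ _ u)).toMul : G) = (ρ _ (ρ _ u)).toMul
    simp only [hρ, ← mul_assoc]
    rw [mem_cent.1 (hc hx) _ hg, mul_assoc _ x⁻¹, mul_assoc _ (g : G)⁻¹, ← mul_inv_rev,
      ← mul_inv_rev, mem_cent.1 (hc hx) _ hg]
  refine commg_le_iff.2 fun x hx y hy => mem_cent.2 fun v hv => ?_
  have h1 := (memJ_norm' (mul_mem (hX hy) (hX hx))).2 hv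
  have := congrArg (fun u => (u.toMul : G)) (DFunLike.congr_fun (congrArg Subtype.val
    ((Finite.isDomain_to_isField D).mul_comm ⟨_, hm x hx⟩ ⟨_, hm y hy⟩)) (Additive.ofMul ⟨_, h1⟩))
  change ((ρ _ (ρ _ _)).toMul : G) = (ρ _ (ρ _ _)).toMul at this
  simp only [hρ, toMul_ofMul] at this
  calc _ = y * (x * ((y * x)⁻¹ * v * (y * x)) * x⁻¹) * y⁻¹ * (x * y * x⁻¹ * y⁻¹) := by group
    _ = _ := by rw [← this]; group

/-- the step used for groups of symplectic type -/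
theorem cents_of_class_two (hn : R ≤ 𝐍[E]) (hc : (Nat.card E).Coprime (Nat.card R))
    (hZ : ⁅E, E⁆ ≤ 𝐂[R]) (hB : B ≤ E ⊓ 𝐂[R]) (h : E ⊓ 𝐂[B] ≤ 𝐂[R]) : R ≤ 𝐂[E] := by
  have h2 := three_subgroup (X := E) (Y := B) (Z := R)
    (commG1P.2 ((commgS _ (hB.trans inf_le_left)).trans hZ))
    (by rw [commG1P.2 (hB.trans inf_le_right), commutator_bot_left])
  rw [commGC R E, commG1P] at h2
  exact coprime_commGG1P hn hc (commG1P.2 ((le_inf (commg_subl.2 hn) h2).trans h))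

end Cfsg.FT.Deg
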