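import Cfsg.Agent.Deg.NqA

/-! Modules in which every nonzero vector is centralized by a unique Sylow `p`-subgroup. -/

set_option autoImplicit false
set_option linter.unusedSectionVars false
set_option linter.style.haveILetI false

namespace Cfsg.FT.Deg

open scoped Pointwise commutatorElement
open Subgroup

/-- `H` acts faithfully on the abelian `s`-group `V`, and the centralizer of every nontrivial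
element of `V` contains a Sylow `p`-subgroup of `H` as a normal subgroup. -/
structure NqHyp {G : Type*} [Group G] (s p : ℕ) (H V : Subgroup G) : Prop where
  pg : IsPGroup s V
  ab : IsMulCommutative V
  norm : H ≤ 𝐍[V]
  faith : H ⊓ 𝐂[V] = ⊥
  dvd : p ∣ Nat.card H
  nq : ∀ v ∈ V, v ≠ 1 → ∃ P, Syl p P H ∧ P ⊴ H ⊓ 𝐂₁[v]

variable {G : Type*} [Group G] [Finite G] {A B E H K L N P R T V W X Y Z : Subgroup G} {s p q t : ℕ}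
  {g v w x y : G} [hs : Fact s.Prime] [hp : Fact p.Prime]

theorem piGen_le_of_syl (hP : Syl p P H) (hn : H ≤ 𝐍[K]) (h : P ≤ K) : piGen {p} H ≤ K :=
  piGen_le_of_index hn (hP.hall.index.of_dvd (indexgS H h))

theorem _root_.Cfsg.FT.Syl.le_piGen (hP : Syl p P H) : P ≤ piGen {p} H := hP.hall.pi.le_piGen hP.le

theorem _root_.Cfsg.FT.Syl.piGen (hP : Syl p P H) : Syl p P (piGen {p} H) :=
  hP.subl hP.le_piGen (piGen_sub _ _)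

namespace NqHyp

variable (h : NqHyp s p H V)
include h

theorem normal (hv : v ∈ V) (h1 : v ≠ 1) (hP : Syl p P H) (hc : P ≤ 𝐂₁[v]) : P ⊴ H ⊓ 𝐂₁[v] := by
  obtain ⟨R, hR, hn⟩ := h.nq v hv h1
  rwa [← hP.hall.eq_of_le hR.hall (sub_normal_Sylow (hR.subl hn.le inf_le_left) hn
    (le_inf hP.le hc) hP.pgroup)] at hn

theorem uniq (hv : v ∈ V) (h1 : v ≠ 1) (hP : Syl p P H) (hc : P ≤ 𝐂₁[v]) (hR : Syl p R H)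
    (hc' : R ≤ 𝐂₁[v]) : R = P :=
  hR.hall.eq_of_le hP.hall (sub_normal_Sylow (hP.subl (le_inf hP.le hc) inf_le_left)
    (h.normal hv h1 hP hc) (le_inf hR.le hc') hR.pgroup)

theorem exists_syl (hv : v ∈ V) (h1 : v ≠ 1) : ∃ P, Syl p P H ∧ P ≤ 𝐂₁[v] :=
  (h.nq v hv h1).imp fun _ e => ⟨e.1, e.2.le.trans inf_le_right⟩

theorem eq_bot (hX : X ≤ H) (hc : X ≤ 𝐂[V]) : X = ⊥ := le_bot_iff.1 (h.faith ▸ le_inf hX hc)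

theorem not_cent (hP : Syl p P H) : ¬ P ≤ 𝐂[V] := fun e => hP.ne_bot h.dvd (h.eq_bot hP.le e)

theorem ne_bot : V ≠ ⊥ := fun e =>
  have ⟨_, hP⟩ := Sylow_exists p H
  h.not_cent hP (e ▸ cents1 _)

theorem count (hW : W ≤ V) (h0 : W ≠ ⊥) (hn : piGen {p} H ≤ 𝐍[W]) (hP : Syl p P H) :
    Nat.card W - 1 = (Nat.card ↥(W ⊓ 𝐂[P]) - 1) * 𝐍[P].relIndex (piGen {p} H) := by
  have h1 : ∀ w ∈ W, w ≠ 1 → ∃ g ∈ piGen {p} H, g⁻¹ * w * g ∈ nz (W ⊓ 𝐂[P]) := fun w hw h1 => by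
    obtain ⟨R, hR, hc⟩ := h.exists_syl (hW hw) h1
    obtain ⟨g, hg, rfl⟩ := Sylow_trans hP.piGen hR.piGen
    refine ⟨g, hg, ⟨(memJ_norm' (hn hg)).2 hw, ?_⟩, fun e => h1 (by
      simpa [mul_assoc, inv_mul_eq_one, eq_comm] using e)⟩
    rw [le_cent1, cent_conj] at hc
    exact mem_conj.1 hc
  have h2 : NormedTI (nz (W ⊓ 𝐂[P])) (piGen {p} H) (piGen {p} H ⊓ 𝐍[P]) := by
    obtain ⟨w, hw, hw1⟩ := exists_ne_one h0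
    obtain ⟨g, -, hg⟩ := h1 w hw hw1
    refine normedTI_nz_iff.2 ⟨nz_nonempty.1 ⟨_, hg⟩, inf_le_left,
      normsI (inf_le_left.trans hn) (norms_cent inf_le_right), fun g hg e => ⟨hg, ?_⟩⟩
    obtain ⟨u, ⟨hu, hu'⟩, hu1⟩ := exists_ne_one e
    rw [conj_inf, ← cent_conj] at hu'
    exact conj_eq_iff_mem_norm.1 (h.uniq (hW hu.1) hu1 hP (le_cent1.2 hu.2)
      ((sylJ (piGen_sub _ _ hg)).2 hP) (le_cent1.2 hu'.2))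
  have h3 := card_support_normedTI h2
  rw [inf_comm (piGen _ _), inf_relIndex_right, ncard_nz'] at h3
  rw [← h3, ← ncard_nz']
  congr 1
  ext w
  refine ⟨fun hw => ?_, ?_⟩
  · obtain ⟨g, hg, e⟩ := h1 w hw.1 hw.2
    exact ⟨_, e, g, hg, by group⟩
  · rintro ⟨a, ha, g, hg, rfl⟩
    exact ⟨(memJ_norm (hn hg)).2 ha.1.1, fun e => ha.2 (conj_eq_one_iff.1 e)⟩

theorem irr (hW : W ≤ V) (hn : piGen {p} H ≤ 𝐍[W]) : W = ⊥ ∨ W = V := by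
  refine or_iff_not_imp_left.2 fun h0 => ?_
  obtain ⟨P, hP⟩ := Sylow_exists p H
  have h1 := h.count hW h0 hn hP
  have h2 := h.count le_rfl h.ne_bot ((piGen_sub _ _).trans h.norm) hP
  have h3 : 1 < 𝐍[P].relIndex (piGen {p} H) := by
    refine lt_of_le_of_ne (relIndex_pos _ _) fun e => h.not_cent hP (centsC.1 (inf_eq_left.1
      (card_eq_of_le inf_le_left ?_)))
    have := Nat.card_pos (α := V)
    have := Nat.card_pos (α := ↥(V ⊓ 𝐂[P]))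
    rw [← e] at h2; omega
  obtain ⟨x, hx⟩ := exists_card_pgroup (h.pg.to_le hW)
  obtain ⟨y, hy⟩ := exists_card_pgroup h.pg
  obtain ⟨a, ha⟩ := exists_card_pgroup (h.pg.to_le (inf_le_left.trans hW : W ⊓ 𝐂[P] ≤ V))
  obtain ⟨b, hb⟩ := exists_card_pgroup (h.pg.to_inf_left (K := 𝐂[P]))
  rw [hx, ha] at h1
  rw [hy, hb] at h2
  have := (pow_eq_of_count hs.out.one_lt h3
    (Nat.pos_of_ne_zero (by rintro rfl; exact h0 (card_eq_one.1 hx)))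
    (Nat.pos_of_ne_zero (by rintro rfl; exact h.ne_bot (card_eq_one.1 hy))) h1 h2).2
  exact card_eq_of_le hW (by rw [hx, hy, this])

theorem eq_bot_of_cent (hX : X ≤ H) (hn : piGen {p} H ≤ 𝐍[X]) (h0 : V ⊓ 𝐂[X] ≠ ⊥) : X = ⊥ :=
  h.eq_bot hX (centsC.1 (inf_eq_left.1 ((h.irr inf_le_left
    (normsI ((piGen_sub _ _).trans h.norm) (norms_cent hn))).resolve_left h0)))

theorem abelian_of_cent (hX : X ≤ H) (hc : X ≤ 𝐂[piGen {p} H]) : IsMulCommutative X :=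
  derG1P.1 (h.eq_bot ((der_sub _).trans hX) (commg_cent_of_irr h.ab ((piGen_sub _ _).trans h.norm)
    (hX.trans h.norm) (fun _ => h.irr) hc))

theorem abelian_of_syl (hX : X ⊴ H) (hP : Syl p P H) (hc : P ≤ 𝐂[X]) : IsMulCommutative X :=
  h.abelian_of_cent hX.le (centsC.1 (piGen_le_of_syl hP (norms_cent hX.norm) hc))

theorem score (hX : X ⊴ H) (hX' : IsPGroup s X) : X = ⊥ :=
  h.eq_bot_of_cent hX.le ((piGen_sub _ _).trans hX.norm)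
    (nontrivial_cent_pgroup hX' h.pg (hX.le.trans h.norm) h.ne_bot)

theorem pcore (hX : X ⊴ H) (hX' : IsPGroup p X) : X = ⊥ :=
  h.eq_bot hX.le (centsC.1 fun v hv => by
    by_cases h1 : v = 1
    · exact h1 ▸ one_mem _
    obtain ⟨P, hP, hc⟩ := h.exists_syl hv h1
    exact le_cent1.1 ((hP.le_of_normal hX' hX).trans hc))

theorem coprime_s (hX : X ⊴ H) (hn : Group.IsNilpotent X) : ¬ s ∣ Nat.card X :=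
  (nilpotent_pcore_Sylow s hn).eq_bot_iff.1 (h.score (hX.core _) (pcore_pgroup' _ _))

theorem coprime_p (hX : X ⊴ H) (hn : Group.IsNilpotent X) : ¬ p ∣ Nat.card X :=
  (nilpotent_pcore_Sylow p hn).eq_bot_iff.1 (h.pcore (hX.core _) (pcore_pgroup' _ _))

theorem stab_cent (hX : X ⊴ H) (hc : ¬ p ∣ Nat.card X) (hv : v ∈ V) (h1 : v ≠ 1) (hP : Syl p P H)
    (hPv : P ≤ 𝐂₁[v]) : X ⊓ 𝐂₁[v] ≤ 𝐂[P] :=
  centsC.1 ((h.normal hv h1 hP hPv).cents_of_TI ⟨inf_le_inf_right _ hX.le,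
    normsI (inf_le_left.trans hX.norm) (inf_le_right.trans (normG _))⟩
    (coprime_TIg (coprime_pgroup hP.pgroup fun e => hc (e.trans (card_dvd_of_le inf_le_left)))))

theorem cyclic_of_abelian (h2 : p ≠ 2) (hX : X ⊴ H) (ha : IsMulCommutative X) : IsCyclic X := by
  by_contra hc
  obtain ⟨v₀, ⟨hv₀, hv₁⟩, hm⟩ := Set.exists_max_image (nz V) (fun v => Nat.card ↥(X ⊓ 𝐂₁[v]))
    (Set.toFinite _) (nz_nonempty.2 h.ne_bot)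
  replace hv₁ : v₀ ≠ 1 := hv₁
  have hXV := hX.le.trans h.norm
  have comm : ∀ {a b}, a ∈ V → b ∈ V → a * b = b * a := comm_of_abelian h.ab
  have h0 : X ⊓ 𝐂₁[v₀] ≠ ⊥ := fun e => by
    obtain ⟨a, ha, ha1, h3⟩ := coprime_abelian_exists_cent1 (L := ⊥) ha hc hXV
      (coprime_pgroup h.pg (h.coprime_s hX (abelian_nil ha))) (le_bot_iff.not.2 h.ne_bot)
    obtain ⟨v, hv, hv1⟩ := exists_ne_one (le_bot_iff.not.1 h3)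
    have := hm v ⟨hv.1, hv1⟩
    rw [e, card_bot] at this
    exact ne_bot_of_mem (A := X ⊓ 𝐂₁[v]) ⟨ha, cent1C.1 hv.2⟩ ha1
      (card_eq_one.1 (le_antisymm this Nat.card_pos))
  generalize hm' : Nat.card ↥(X ⊓ 𝐂₁[v₀]) = m at hm
  have hJ : ∀ g ∈ H, ∀ v, X ⊓ 𝐂₁[g * v * g⁻¹] = g •ᶜ (X ⊓ 𝐂₁[v]) := fun g hg v => by
    rw [conj_inf, cent1_conj, hX.conj_eq hg]
  have K0 : ∀ B ≤ X, Nat.card B = m → ∀ v ∈ V, v ≠ 1 → v ∈ 𝐂[B] → B = X ⊓ 𝐂₁[v] :=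
    fun B hB e v hv h1 h3 => card_eq_of_le (le_inf hB (le_cent1.2 h3)) (e ▸ hm v ⟨hv, h1⟩)
  have K1 : ∀ B₁ ≤ X, ∀ B₂ ≤ X, Nat.card B₁ = m → Nat.card B₂ = m → B₁ ≠ B₂ →
      (V ⊓ 𝐂[B₁]) ⊓ (V ⊓ 𝐂[B₂]) = ⊥ := fun B₁ b1 B₂ b2 c1 c2 hne => by
    by_contra e
    obtain ⟨v, hv, hv1⟩ := exists_ne_one e
    exact hne ((K0 _ b1 c1 v hv.1.1 hv1 hv.1.2).trans (K0 _ b2 c2 v hv.1.1 hv1 hv.2.2).symm)
  have hC : ∀ B ≤ X, ∀ b ∈ X, ∀ u ∈ V ⊓ 𝐂[B], b * u * b⁻¹ ∈ V ⊓ 𝐂[B] := fun B hB b hb u hu =>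
    (memJ_norm (normsI hXV (norms_cent (sub_abelian_norm ha hB)) hb)).2 hu
  have K2 : ∀ v₁ ∈ V, ∀ v₂ ∈ V, v₁ ≠ 1 → v₂ ≠ 1 → Nat.card ↥(X ⊓ 𝐂₁[v₁]) = m →
      Nat.card ↥(X ⊓ 𝐂₁[v₂]) = m → X ⊓ 𝐂₁[v₁] ≠ X ⊓ 𝐂₁[v₂] → ∀ x ∈ H ⊓ 𝐂₁[v₁ * v₂],
      x •ᶜ (X ⊓ 𝐂₁[v₁]) = X ⊓ 𝐂₁[v₁] ∨ x •ᶜ (X ⊓ 𝐂₁[v₁]) = X ⊓ 𝐂₁[v₂] := by
    intro v₁ a1 v₂ a2 b1 b2 c1 c2 hne x hx
    obtain ⟨b, hb, hb'⟩ := SetLike.not_le_iff_exists.1 fun e : x •ᶜ (X ⊓ 𝐂₁[v₂]) ≤ x •ᶜ (X ⊓ 𝐂₁[v₁]) =>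
      hne (card_eq_of_le (conj_le_conj.1 e) (c1.trans c2.symm).le).symm
    rw [← hJ x hx.1] at hb hb' ⊢
    have d1 := (memJ_norm (h.norm hx.1)).2 a1
    have d2 := (memJ_norm (h.norm hx.1)).2 a2
    have e1 : v₁ * v₂ = x * v₁ * x⁻¹ * (x * v₂ * x⁻¹) := by
      rw [conj_mul, mem_cent1.1 hx.2, mul_inv_cancel_right]
    have f1 : ∀ v ∈ V, v ∈ V ⊓ 𝐂[X ⊓ 𝐂₁[v]] := fun v hv => ⟨hv, le_cent1.1 inf_le_right⟩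
    have f2 : ∀ v ∈ V, b * v * b⁻¹ * v⁻¹ ∈ V ⊓ 𝐂[X ⊓ 𝐂₁[v]] := fun v hv =>
      mul_mem (hC _ inf_le_left b hb.1 v (f1 v hv)) (inv_mem (f1 v hv))
    have f3 : ∀ a ∈ V, ∀ c ∈ V, b * (a * c) * b⁻¹ * (a * c)⁻¹ =
        b * a * b⁻¹ * a⁻¹ * (b * c * b⁻¹ * c⁻¹) := fun a ha c hc => by
      rw [mul_assoc (b * a * b⁻¹), ← comm (f2 c hc).1 (inv_mem ha)]; group
    have e2 : b * (x * v₁ * x⁻¹) * b⁻¹ * (x * v₁ * x⁻¹)⁻¹ =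
        b * v₁ * b⁻¹ * v₁⁻¹ * (b * v₂ * b⁻¹ * v₂⁻¹) := by
      rw [← f3 _ a1 _ a2, e1, f3 _ d1 _ d2, mem_cent1.1 hb.2]; group
    have e3 : ∀ y ∈ X ⊓ 𝐂₁[x * v₁ * x⁻¹], y ∈ 𝐂₁[b * v₁ * b⁻¹ * v₁⁻¹] ⊓ 𝐂₁[b * v₂ * b⁻¹ * v₂⁻¹] :=
      fun y hy => by
        have := eq_of_mul_eq_of_TI (K1 _ inf_le_left _ inf_le_left c1 c2 hne)
          (hC _ inf_le_left y hy.1 _ (f2 _ a1)) (f2 _ a1) (hC _ inf_le_left y hy.1 _ (f2 _ a2))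
          (f2 _ a2) (by rw [conj_mul, ← e2, mem_cent.1 (f2 _ d1).2 y hy, mul_inv_cancel_right])
        exact ⟨mem_cent1.2 (mul_inv_eq_iff_eq_mul.1 this.1),
          mem_cent1.2 (mul_inv_eq_iff_eq_mul.1 this.2)⟩
    have c3 : Nat.card ↥(X ⊓ 𝐂₁[x * v₁ * x⁻¹]) = m := by rw [hJ x hx.1, card_conj, c1]
    by_cases e4 : b * v₁ * b⁻¹ * v₁⁻¹ = 1
    · have e5 : b * v₂ * b⁻¹ * v₂⁻¹ ≠ 1 := fun e5 => hb' ⟨hb.1, mem_cent1.2 (by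
        rw [e4, e5, mul_one, mul_inv_eq_one, mul_inv_eq_iff_eq_mul] at e2; exact e2)⟩
      exact .inr ((K0 _ inf_le_left c3 _ (f2 _ a2).1 e5 (le_cent1.1 fun y hy => (e3 y hy).2)).trans
        (K0 _ inf_le_left c2 _ (f2 _ a2).1 e5 (f2 _ a2).2).symm)
    · exact .inl ((K0 _ inf_le_left c3 _ (f2 _ a1).1 e4 (le_cent1.1 fun y hy => (e3 y hy).1)).trans
        (K0 _ inf_le_left c1 _ (f2 _ a1).1 e4 (f2 _ a1).2).symm)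
  have K3 : ∀ v₁ ∈ V, ∀ v₂ ∈ V, v₁ ≠ 1 → v₂ ≠ 1 → Nat.card ↥(X ⊓ 𝐂₁[v₁]) = m →
      Nat.card ↥(X ⊓ 𝐂₁[v₂]) = m → X ⊓ 𝐂₁[v₁] ≠ X ⊓ 𝐂₁[v₂] → ∀ P, Syl p P H → P ≤ 𝐂₁[v₁] →
      P ≤ 𝐂₁[v₂] := by
    intro v₁ a1 v₂ a2 b1 b2 c1 c2 hne P hP hP1
    have hT := K1 _ inf_le_left _ inf_le_left c1 c2 hne
    have f1 : ∀ v ∈ V, v ∈ V ⊓ 𝐂[X ⊓ 𝐂₁[v]] := fun v hv => ⟨hv, le_cent1.1 inf_le_right⟩
    obtain ⟨R, hR, hR1⟩ := h.exists_syl (mul_mem a1 a2) fun e => b1 (mem_bot.1 (hT ▸ ⟨f1 _ a1,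
      eq_inv_of_mul_eq_one_left e ▸ Subgroup.inv_mem _ (f1 _ a2)⟩))
    have key : R ≤ 𝐂₁[v₁] ⊓ 𝐂₁[v₂] := fun x hx => by
      have g1 := K2 _ a1 _ a2 b1 b2 c1 c2 hne x ⟨hR.le hx, hR1 hx⟩
      have g2 := K2 _ a2 _ a1 b2 b1 c2 c1 hne.symm x ⟨hR.le hx, comm a1 a2 ▸ hR1 hx⟩
      have g3 : x •ᶜ (X ⊓ 𝐂₁[v₁]) = X ⊓ 𝐂₁[v₁] := by
        refine g1.elim id fun g1 => conj_eq_iff_mem_norm.2 ?_
        have g4 : x ^ 2 ∈ 𝐍[X ⊓ 𝐂₁[v₁]] := by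
          rw [← conj_eq_iff_mem_norm, sq, ← conj_conj, g1,
            g2.resolve_left fun e => hne (conj_inj.1 (g1.trans e.symm))]
        obtain ⟨k, hk⟩ := (odd_card_of_pgroup hR.pgroup h2).of_dvd_nat (orderOf_dvd_natCard _ hx)
        have := pow_orderOf_eq_one x
        rw [hk, pow_succ, pow_mul] at this
        exact eq_inv_of_mul_eq_one_right this ▸ Subgroup.inv_mem _ (Subgroup.pow_mem _ g4 k)
      have g4 : x •ᶜ (X ⊓ 𝐂₁[v₂]) = X ⊓ 𝐂₁[v₂] :=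
        g2.resolve_right fun e => hne (conj_inj.1 (g3.trans e.symm))
      have g5 : ∀ v ∈ V, x •ᶜ (X ⊓ 𝐂₁[v]) = X ⊓ 𝐂₁[v] → x * v * x⁻¹ ∈ V ⊓ 𝐂[X ⊓ 𝐂₁[v]] :=
        fun v hv e => by rw [← e, ← hJ x (hR.le hx)]; exact f1 _ ((memJ_norm (h.norm (hR.le hx))).2 hv)
      have := eq_of_mul_eq_of_TI hT (g5 _ a1 g3) (f1 _ a1) (g5 _ a2 g4) (f1 _ a2)
        (by rw [conj_mul, mem_cent1.1 (hR1 hx), mul_inv_cancel_right])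
      exact ⟨mem_cent1.2 (mul_inv_eq_iff_eq_mul.1 this.1),
        mem_cent1.2 (mul_inv_eq_iff_eq_mul.1 this.2)⟩
    exact h.uniq a1 b1 hP hP1 hR (key.trans inf_le_left) ▸ key.trans inf_le_right
  obtain ⟨g₀, hg₀, hg₁⟩ := SetLike.not_le_iff_exists.1 fun e : piGen {p} H ≤ 𝐍[X ⊓ 𝐂₁[v₀]] =>
    h0 (h.eq_bot_of_cent (inf_le_left.trans hX.le) e
      (ne_bot_of_mem ⟨hv₀, le_cent1.1 inf_le_right⟩ hv₁))
  replace hg₀ := piGen_sub _ _ hg₀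
  rw [← conj_eq_iff_mem_norm, ← hJ _ hg₀] at hg₁
  obtain ⟨P, hP, hPv⟩ := h.exists_syl hv₀ hv₁
  have i1 : ∀ g ∈ H, g * v₀ * g⁻¹ ∈ V := fun g hg => (memJ_norm (h.norm hg)).2 hv₀
  have i2 : ∀ g : G, g * v₀ * g⁻¹ ≠ 1 := fun g e => hv₁ (conj_eq_one_iff.1 e)
  have i3 : ∀ g ∈ H, Nat.card ↥(X ⊓ 𝐂₁[g * v₀ * g⁻¹]) = m := fun g hg => by
    rw [hJ g hg, card_conj, hm']
  refine hP.ne_bot h.dvd (h.pcore ⟨hP.le, fun g hg => conj_eq_iff_mem_norm.1 ?_⟩ hP.pgroup)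
  refine h.uniq (i1 g hg) (i2 g) hP ?_ ((sylJ hg).2 hP) (cent1_conj g v₀ ▸ conj_le_conj.2 hPv)
  by_cases e : X ⊓ 𝐂₁[v₀] = X ⊓ 𝐂₁[g * v₀ * g⁻¹]
  · exact K3 _ (i1 _ hg₀) _ (i1 g hg) (i2 _) (i2 _) (i3 _ hg₀) (i3 g hg) (e ▸ hg₁) P hP
      (K3 _ hv₀ _ (i1 _ hg₀) hv₁ (i2 _) hm' (i3 _ hg₀) (Ne.symm hg₁) P hP hPv)
  · exact K3 _ hv₀ _ (i1 g hg) hv₁ (i2 _) hm' (i3 g hg) e P hP hPv

end NqHyp

end Cfsg.FT.Deg
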