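import Cfsg.Agent.Deg.NqB

/-! Modules satisfying the condition `N_p`: normal subgroups of symplectic type. -/

set_option autoImplicit false
set_option linter.unusedSectionVars false
set_option linter.style.haveILetI false

namespace Cfsg.FT.Deg

open scoped Pointwise commutatorElement
open Subgroup

variable {G : Type*} [Group G] [Finite G] {A B E H K L N P R T V W X Y Z : Subgroup G} {s p q t : ℕ}
  {g v w x y : G} [hs : Fact s.Prime] [hp : Fact p.Prime]

namespace NqHyp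

variable (h : NqHyp s p H V)
include h

theorem exists_SCN (hE : E ⊴ H) (hn : Group.IsNilpotent E) : ∃ B B₁ b P, IsSCN E B ∧ b ∈ B ∧
    B = B₁ ⊔ ⟪b⟫ ∧ V ⊓ 𝐂[B₁] ≠ ⊥ ∧ Syl p P H ∧ B₁ ≤ 𝐂[P] := by
  obtain ⟨B, hB, -⟩ := exists_SCN_ge hn (normal1 E) abelian_bot
  have h1 := (SCN_le hB).trans hE.le
  obtain ⟨B₁, h2, h3, h4⟩ : ∃ B₁ ≤ B, IsCyclic (B ⁄ B₁) ∧ ¬ V ⊓ 𝐂[B₁] ≤ ⊥ := by
    by_contra! e
    exact h.ne_bot (le_bot_iff.1 (coprime_abelian_gen_cent_le (SCN_abelian hB) (h1.trans h.norm)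
      (coprimegS (SCN_le hB) (coprime_pgroup h.pg (h.coprime_s hE hn))) e))
  obtain ⟨b, hb, e⟩ := exists_join_cycle_of_cyclic_quo (sub_abelian_normal (SCN_abelian hB) h2) h3
  obtain ⟨v, hv, hv1⟩ := exists_ne_one (le_bot_iff.not.1 h4)
  obtain ⟨P, hP, hPv⟩ := h.exists_syl hv.1 hv1
  exact ⟨B, B₁, b, P, hB, hb, e, le_bot_iff.not.1 h4, hP, (le_inf (h2.trans (SCN_le hB))
    (le_cent1.2 hv.2)).trans (h.stab_cent hE (h.coprime_p hE hn) hv.1 hv1 hP hPv)⟩

theorem cent_of_exp [ht : Fact t.Prime] (hE : E ⊴ H) (hT : IsPGroup t E) (he : ∀ x ∈ E, x ^ t = 1)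
    (h2 : ⁅E, E⁆ ≤ 𝐙[E]) (hc : piGen {p} H ≤ 𝐂[𝐙[E]]) : piGen {p} H ≤ 𝐂[E] := by
  obtain ⟨B, B₁, b, P, hB, hb, e, h3, hP, h4⟩ := h.exists_SCN hE (pgroup_nil hT)
  have hZ := centsC.1 (hP.le_piGen.trans hc)
  have h5 : B₁ ≤ B := e ▸ le_sup_left
  have h6 := sub_abelian_norm (SCN_abelian hB) h5
  by_cases h0 : 𝐙[E] ≤ B₁
  · rw [(trivg_center_pgroup hT).1 (h.eq_bot_of_cent hE.center.le ((piGen_sub _ _).trans
      hE.center.norm) fun e => h3 (le_bot_iff.1 (e ▸ inf_le_inf_left V (centS h0))))]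
    exact cents1 _
  have h7 := card_dvd_of_abelem_cyclic (quotient_abelem B₁ (show IsElementaryAbelian t B from
    ⟨SCN_abelian hB, fun x hx => he x (SCN_le hB hx)⟩)) (e ▸ cyclic_quo_join_cycle (h6 hb))
  rw [card_quotient h6, Nat.dvd_prime ht.out] at h7
  have h8 := (p_index_maximal h5 ((h7.resolve_left fun e => h0 ((SCN_center_le hB).trans
    (relIndex_eq_one.1 e))) ▸ ht.out)).sup_eq (SCN_center_le hB) h0
  refine piGen_le_of_syl hP (norms_cent hE.norm) (cents_of_class_two (hP.le.trans hE.norm)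
    (coprime_pgroup hP.pgroup (h.coprime_p hE (pgroup_nil hT))).symm (h2.trans hZ)
    (le_inf (h5.trans (SCN_le hB)) h4) ?_)
  refine le_trans ?_ ((cent_SCN hB).le.trans (h8.ge.trans (sup_le h4 hZ)))
  rw [← h8, centY]
  exact le_inf inf_le_left (le_inf inf_le_right (inf_le_left.trans (centsC.1 inf_le_right)))

theorem cent_of_two (h4 : 4 ≤ p) (hE : E ⊴ H) (hT : IsPGroup 2 E) (he : ∀ x ∈ E, x ^ 2 ∈ 𝐙[E])
    (h2 : ⁅E, E⁆ ≤ 𝐙[E]) : piGen {p} H ≤ 𝐂[E] := by
  obtain ⟨B, B₁, b, P, hB, hb, e, -, hP, h3⟩ := h.exists_SCN hE (pgroup_nil hT)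
  have hc := h.cyclic_of_abelian (by omega) hE.center (center_abelian E)
  have hPE := hP.le.trans hE.norm
  have hZ := centsC.1 (cents_cyclic_pgroup hc hT.to_inf_left (norms_center hPE) fun q hq hd => by
    obtain ⟨k, hk⟩ := exists_card_pgroup hP.pgroup
    obtain rfl := (Nat.prime_dvd_prime_iff_eq hq hp.out).1 (hq.dvd_of_dvd_pow (hk ▸ hd))
    exact ⟨by omega, fun e => by have := Nat.le_of_dvd one_pos e; omega⟩)
  have h5 : B₁ ≤ B := e ▸ le_sup_left
  have hBE := SCN_le hB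
  have hN : B₁ ⊔ 𝐙[E] ≤ B := sup_le h5 (SCN_center_le hB)
  have hEN : E ≤ 𝐍[B₁ ⊔ 𝐙[E]] := sub_der1_norm (h2.trans le_sup_right) (hN.trans hBE)
  have hcop := (coprime_pgroup hP.pgroup (h.coprime_p hE (pgroup_nil hT))).symm
  have hPN : P ≤ 𝐂[B₁ ⊔ 𝐙[E]] := centsC.1 (sup_le h3 hZ)
  have hBY : B ≤ E ⊓ 𝐂[B₁] := le_inf hBE (sub_abelian_cent (SCN_abelian hB) h5)
  have h6 : (B₁ ⊔ 𝐙[E]).relIndex B ≤ 2 := by
    rw [← card_quotient (hBE.trans hEN)]
    refine Nat.le_of_dvd two_pos (card_dvd_of_abelem_cyclic ((quotient_abelem_iff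
      (hBE.trans hEN)).2 ⟨((dergS hBE).trans h2).trans le_sup_right,
        fun x hx => le_sup_right (a := B₁) (he x (hBE hx))⟩) ?_)
    rw [show B = B₁ ⊔ 𝐙[E] ⊔ ⟪b⟫ from le_antisymm (e.le.trans (sup_le_sup_right le_sup_left _))
      (sup_le hN (zpowers_le.2 hb))]
    exact cyclic_quo_join_cycle (hEN (hBE hb))
  have h7 : B.relIndex (E ⊓ 𝐂[B₁]) ≤ 2 := by
    have h8 : (E ⊓ 𝐂[B₁]) ⊓ 𝐂₁[b] ≤ B := by
      refine le_trans ?_ (cent_SCN hB).le
      rw [e, centY, cent_cycle, inf_assoc]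
    refine (Nat.le_of_dvd (relIndex_pos _ _) (indexgS _ h8)).trans ?_
    rw [inf_comm, inf_relIndex_right]
    refine (relIndex_cent1_le (L := E ⊓ 𝐂[B₁]) (S := (· * b) '' Ohm1 2 𝐙[E]) fun g hg => ⟨⁅g, b⁆, mem_Ohm1
      (h2 (mem_commg hg.1 (hBE hb))) ?_, by simp [commutatorElement_def]⟩).trans ?_
    · have h9 := mem_cent.1 (h2 (mem_commg hg.1 (hBE hb))).2 b (hBE hb)
      have h10 := mem_cent.1 (he b (hBE hb)).2 g hg.1
      calc ⁅g, b⁆ ^ 2 = ⁅g, b⁆ * (b * ⁅g, b⁆) * b⁻¹ * b * b⁻¹ := by rw [h9, sq]; group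
        _ = g * b ^ 2 * g⁻¹ * (b ^ 2)⁻¹ := by
          rw [show ⁅g, b⁆ * (b * ⁅g, b⁆) = g * b * g⁻¹ * ⁅g, b⁆ by simp [commutatorElement_def, mul_assoc],
            commutatorElement_def, sq]; group
        _ = 1 := by rw [h10]; group
    · rw [Set.ncard_image_of_injective _ (mul_left_injective b)]
      by_cases h0 : 𝐙[E] = ⊥
      · rw [h0, Ohm1_bot]; simp
      exact (Ohm1_cyclic_pgroup_prime hc hT.to_inf_left h0).le
  have hPY : P ≤ 𝐍[E ⊓ 𝐂[B₁]] := normsI hPE (norms_cent (cents_norm (centsC.1 h3)))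
  have h8 := cents_of_card_le (quotient_pgroup (B₁ ⊔ 𝐙[E]) hP.pgroup) (quotient_norms _ hPY) (by
    rw [card_quotient (inf_le_left.trans hEN), ← relIndex_mul_relIndex _ _ _ hN hBY]
    exact (Nat.mul_le_mul h6 h7).trans h4)
  exact piGen_le_of_syl hP (norms_cent hE.norm) (cents_of_class_two hPE hcop (h2.trans hZ)
    (le_inf (h5.trans hBE) h3) (centsC.1 (stable_factor_cent hPN ((quotient_cents2
      (inf_le_left.trans hEN) (cents_norm hPN)).1 (centsC.1 h8)) (coprimeSg (hN.trans hBE) hcop))))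

theorem abelian_two (h4 : 4 ≤ p) (hT : T ⊴ H) (h2 : IsPGroup 2 T) : IsMulCommutative T := by
  obtain ⟨E, e1, e2, e3, e4, e5⟩ := critical_any h2
  have hE : E ⊴ H := ⟨e1.trans hT.le, hT.norm.trans e2⟩
  obtain ⟨P, hP⟩ := Sylow_exists p H
  exact h.abelian_of_syl hT hP (coprime_cent_selfcent (hP.le.trans hT.norm)
    (coprime_pgroup hP.pgroup (h.coprime_p hT (pgroup_nil h2))).symm (normalS e1 hT.le hE) e5
    (hP.le_piGen.trans (h.cent_of_two h4 hE (h2.to_le e1) e4 ((commgS _ e1).trans e3))))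

end NqHyp

/-- A solvable group cannot satisfy `N_p` and `N_q` on the same module if every cyclic normal
subgroup is centralized by the Sylow `p`- or by the Sylow `q`-subgroups. -/
theorem NqHyp.two_primes [hq : Fact q.Prime] (h : NqHyp s p H V) (h' : NqHyp s q H V) (hpq : p ≠ q)
    (hsol : Group.IsSolvable H)
    (hc : ∀ X, X ⊴ H → IsCyclic X → piGen {p} H ≤ 𝐂[X] ∨ piGen {q} H ≤ 𝐂[X]) : False := by
  have h1 : ∀ X, X ⊴ H → IsMulCommutative X → IsCyclic X := fun X hX ha => by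
    by_cases h2 : p = 2
    · exact h'.cyclic_of_abelian (h2 ▸ hpq.symm) hX ha
    · exact h.cyclic_of_abelian h2 hX ha
  have h2 : ∀ t, t.Prime → IsMulCommutative (core {t} H) := fun t ht => by
    haveI := Fact.mk ht
    have hT := pcore_pgroup' t H
    have hn := pcore_normal {t} H
    by_cases h0 : core {t} H = ⊥
    · exact h0 ▸ abelian_bot
    have hp' : p ≠ t := by rintro rfl; exact h0 (h.pcore hn hT)
    have hq' : q ≠ t := by rintro rfl; exact h0 (h'.pcore hn hT)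
    by_cases h2 : t = 2
    · subst h2
      have := hp.out.two_le
      have := hq.out.two_le
      by_cases h4 : 4 ≤ p
      · exact h.abelian_two h4 hn hT
      · exact h'.abelian_two (by omega) hn hT
    obtain ⟨E, e1, e2, e3, e4, e5⟩ := BG4P.critical_odd hT h2
    have hE : E ⊴ H := ⟨e1.trans hn.le, hn.norm.trans e2⟩
    have key : ∀ {p} [Fact p.Prime], NqHyp s p H V → piGen {p} H ≤ 𝐂[𝐙[E]] →
        IsMulCommutative (core {t} H) := fun {p} _ h e => by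
      obtain ⟨P, hP⟩ := Sylow_exists p H
      exact h.abelian_of_syl hn hP (e5 P (hP.le.trans hn.norm) (not_dvd_card_of_pgroup hP.pgroup
        (by rintro rfl; exact h0 (h.pcore hn hT)))
        (hP.le_piGen.trans (h.cent_of_exp hE (hT.to_le e1) e4 ((commgS _ e1).trans e3) e)))
    exact (hc _ hE.center (h1 _ hE.center (center_abelian E))).elim (key h) (key h')
  have h3 : IsMulCommutative (fit H) := abelian_iff.2 (Fitting_le_of_forall fun t ht =>
    centsC.1 (Fitting_le_of_forall fun r hr => by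
      by_cases e : r = t
      · exact e ▸ abelian_iff.1 (h2 r hr)
      · exact pcore_cents (fun a ha hb => e (ha.symm.trans hb)) H))
  have key : ∀ {p} [Fact p.Prime], NqHyp s p H V → ¬ piGen {p} H ≤ 𝐂[fit H] := fun {p} _ h e => by
    obtain ⟨P, hP⟩ := Sylow_exists p H
    exact h.coprime_p (Fitting_normal H) (Fitting_nil H) ((pgroup_pdiv hP.pgroup (hP.ne_bot h.dvd)).trans
      (card_dvd_of_le ((le_inf hP.le (hP.le_piGen.trans e)).trans (cent_sub_Fitting hsol))))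
  exact (hc _ (Fitting_normal H) (h1 _ (Fitting_normal H) h3)).elim (key h) (key h')

end Cfsg.FT.Deg
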