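import Cfsg.Agent.FT.CF.Clifford
import Cfsg.Agent.FT.Base.BG1
import Cfsg.Agent.CT.ItoPSolv
import Cfsg.Agent.CT.GlInv

/-! Primes dividing character degrees of solvable groups: Itô's theorem and Clifford theory. -/

set_option autoImplicit false
set_option linter.unusedSectionVars false
set_option linter.style.haveILetI false

namespace Cfsg.FT.Deg

open scoped Pointwise commutatorElement
open Subgroup

/-- some irreducible character of `L` has degree divisible by `n` -/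
def Rho {G : Type*} [Group G] (L : Subgroup G) (n : ℕ) : Prop := ∃ χ, IsIrr L χ ∧ n ∣ charDegree χ

variable {G : Type*} [Group G] [Finite G] {A B I J K L M P R T X : Subgroup G} {p q r n : ℕ}
  {g : G} {χ θ ξ l : G → ℂ} {π : Set ℕ}

theorem Rho.pull {G' : Type*} [Group G'] {L' : Subgroup G'} {f : G → G'} (h : Rho L' n)
    (hf : MorphOnto L f L') : Rho L n :=
  have ⟨χ, h1, h2⟩ := h
  ⟨_, hf.isIrr h1, (hf.charDegree_cfPull χ).symm ▸ h2⟩

theorem Rho.of_dvd {m : ℕ} (h : Rho L n) (hm : m ∣ n) : Rho L m :=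
  h.imp fun _ e => ⟨e.1, hm.trans e.2⟩

theorem rho_comm {m : ℕ} : Rho L (m * n) ↔ Rho L (n * m) := by rw [mul_comm]

theorem rho_of_normal (hX : X ⊴ L) (hθ : IsIrr X θ)
    (h : n ∣ (L ⊓ inertia X θ).relIndex L * charDegree θ) : Rho L n := by
  obtain ⟨χ, hχ, h0⟩ := hθ.exists_over hX.le
  obtain ⟨e, he⟩ := hχ.isChar.exists_dot_Res hX.le hθ.isChar
  exact ⟨χ, hχ, clifford_charDegree hX hχ hθ (fun h1 => h0 (by simpa [h1] using he)) he ▸
    h.mul_left e⟩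

theorem Rho.of_normal (h : Rho X n) (hX : X ⊴ L) : Rho L n :=
  have ⟨_, h1, h2⟩ := h
  rho_of_normal hX h1 (h2.mul_left _)

theorem charDegree_mul' (h : IsChar L χ) (h' : IsChar L θ) :
    charDegree (χ * θ) = charDegree χ * charDegree θ := by
  have := (h.mul h').one_eq
  rw [Pi.mul_apply, h.one_eq, h'.one_eq] at this
  exact_mod_cast this.symm

theorem charDegree_Res (H : Subgroup G) (χ : G → ℂ) : charDegree (Res H χ) = charDegree χ := by
  unfold charDegree; rw [Res_one]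

theorem rho_iff : Rho L n ↔ ∃ χ : IrrCharacter L, n ∣ charDegree χ.1 :=
  ⟨fun ⟨_, h1, h2⟩ => ⟨h1.toIrr, h1.charDegree_toIrr ▸ h2⟩, fun ⟨χ, h⟩ =>
    have h1 : IsIrr L (extendByZero L χ.1) := isIrr_extendByZero χ
    ⟨_, h1, by rwa [← h1.charDegree_toIrr, show h1.toIrr = χ from
      Subtype.ext (funext fun x => extendByZero_coe _ _ _)]⟩⟩

variable [hp : Fact p.Prime]

theorem not_rho_of_normal (hP : Syl p P L) (hn : P ⊴ L) (ha : IsMulCommutative P) : ¬ Rho L p :=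
  fun ⟨_, h1, h2⟩ => hP.index (h2.trans (h1.charDegree_dvd_of_abelian hn ha))

theorem ito (hs : Group.IsSolvable L) (h : ¬ Rho L p) (hP : Syl p P L) :
    P ⊴ L ∧ IsMulCommutative P := by
  obtain ⟨S, rfl⟩ := syl_iff_exists_sylow.1 hP
  have h1 := IsPSolvable.of_isSolvable p hs
  have h2 : ∀ χ : IrrCharacter L, ¬ p ∣ charDegree χ.1 := fun χ e => h (rho_iff.2 ⟨χ, e⟩)
  exact ⟨normalIn_map_subtype.2 (h1.sylow_normal_of_forall_not_dvd h2 S),
    abelian_map _ (h1.sylow_comm_of_forall_not_dvd h2 S)⟩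

theorem ito_quo (hs : Group.IsSolvable L) (hX : X ⊴ L) (h : ¬ Rho (L ⁄ X) p) (hP : Syl p P L) :
    X ⊔ P ⊴ L ∧ ⁅P, P⁆ ≤ X := by
  have hn := hP.le.trans hX.norm
  obtain ⟨h1, h2⟩ := ito (quotient_sol X hs) h (hP.quo hn)
  exact ⟨quotientK hn ▸ h1.pre hX, der1_min hn h2⟩

theorem exists_syl_le (hI : I ≤ L) (h : ¬ p ∣ I.relIndex L) : ∃ P, Syl p P L ∧ P ≤ I :=
  have ⟨P, hP⟩ := Sylow_exists p I
  ⟨P, hP.trans_index hI h, hP.le⟩

theorem syl_le_of_normal (hP : Syl p P L) (hR : Syl p R L) (hJ : J ≤ L) (hK : K ⊴ J) (h : P ≤ K)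
    (h' : R ≤ J) : R ≤ K := by
  obtain ⟨g, hg, rfl⟩ := Sylow_trans (hP.subl (h.trans hK.le) hJ) (hR.subl h' hJ)
  exact conj_le_of_mem_norm (hK.norm hg) h

/-- if `θ` extends to its inertia group and `r` divides the degree of every character over `θ`,
then the absence of degrees divisible by `p * r` controls the Sylow `p`-subgroups -/
theorem syl_of_extends (hs : Group.IsSolvable L) (hX : X ⊴ L) (hθ : IsIrr X θ)
    (hξ : IsChar (L ⊓ inertia X θ) ξ) (he : Res X ξ = θ) (hpr : p.Coprime r)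
    (hr : r ∣ (L ⊓ inertia X θ).relIndex L * charDegree θ) (h : ¬ Rho L (p * r)) :
    ∃ P, Syl p P L ∧ X ⊔ P ⊴ L ⊓ inertia X θ ∧ ⁅P, P⁆ ≤ X := by
  set I := L ⊓ inertia X θ
  have hXI : X ⊴ I := hθ.isCF.normal_Inertia hX.le
  obtain ⟨P, hP, hPI⟩ := exists_syl_le (p := p) (inf_le_left : I ≤ L) fun e =>
    h (rho_of_normal hX hθ (hpr.mul_dvd_of_dvd_of_dvd (e.mul_right _) hr))
  refine ⟨P, hP, ito_quo (solvableS inf_le_left hs) hXI ?_ (hP.subl hPI inf_le_left)⟩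
  rintro ⟨β, hβ, hd⟩
  have h1 := hβ.cfMod hXI.norm
  have h2 := cfker_mod hXI β
  have h3 := gallagher_irr hXI hξ (he ▸ hθ) h1 h2
  have h4 : dot X (cfMod I X β * ξ) θ ≠ 0 := by
    rw [← dot_Res_left, Res_ker_mul h2, he, dot_smul_left, hθ.dot_self, mul_one]
    exact h1.one_ne_zero
  refine h ⟨_, clifford_corr_irr hX hθ hXI.le inf_le_left le_rfl h3 h4, ?_⟩
  rw [h3.isChar.charDegree_Ind inf_le_left, charDegree_mul' h1.isChar hξ, charDegree_cfMod,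
    ← charDegree_Res X ξ, he, mul_left_comm]
  exact mul_dvd_mul hd hr

theorem lin_le_inertia (hl : IsLin A l) (hK : K ≤ 𝐍[A]) : K ≤ inertia A l ↔ ⁅A, K⁆ ≤ cfker A l := by
  rw [commg_le_iff]
  refine ⟨fun h a ha k hk => hl.mem_cfker.2 ?_, fun h k hk =>
    mem_inertia_of_forall (fun x => hl.isCF.off) (hK hk) fun a ha => ?_⟩
  · rw [show a * k * a⁻¹ * k⁻¹ = a * (k * a⁻¹ * k⁻¹) by group, hl.map_mul_left ha,
      inertia_valJ (h hk), ← hl.map_mul_left ha, mul_inv_cancel, hl.one]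
  · have := hl.mem_cfker.1 (h a⁻¹ (inv_mem ha) k hk)
    rw [show k * a * k⁻¹ = a * (a⁻¹ * k * a⁻¹⁻¹ * k⁻¹) by group, hl.map_mul_left ha, this, mul_one]

theorem sup_syl_eq (hX : L ≤ 𝐍[X]) (hn : X ⊔ P ⊴ L) (hP : Syl p P L) (hR : Syl p R L) :
    X ⊔ R = X ⊔ P := by
  obtain ⟨g, hg, rfl⟩ := Sylow_trans hP hR
  rw [← hn.conj_eq hg, conj_sup, conj_eq_of_mem_norm (hX hg)]

theorem sup_syl_normal (hX : L ≤ 𝐍[X]) (hP : Syl p P L) (hJ : J ≤ L) (hn : X ⊔ P ⊴ J) (hK : K ⊴ L)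
    (hR : Syl p R L) (hRK : R ≤ K) (hKJ : K ≤ J) : X ⊔ P ⊴ L :=
  ⟨hn.le.trans hJ, normsP''.2 fun g hg => by
    have h1 := (sylJ hg).2 hP
    rw [conj_sup, conj_eq_of_mem_norm (hX hg)]
    exact sup_le le_sup_left (syl_le_of_normal hP h1 hJ hn le_sup_right
      ((syl_le_of_normal hR h1 le_rfl hK hRK h1.le).trans hKJ))⟩

theorem dvd_of_not_le (hX : L ≤ 𝐍[X]) (hn : X ⊔ P ⊴ L) (hP : Syl p P L) (hXI : X ≤ I) (hI : I ≤ L)
    (h : ¬ P ≤ I) : p ∣ I.relIndex L := by_contra fun e =>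
  have ⟨_, hR, h1⟩ := exists_syl_le hI e
  h (le_sup_right.trans ((sup_syl_eq hX hn hP hR).symm.trans_le (sup_le hXI h1)))

open Classical in
/-- counting nontrivial characters of an abelian section whose inertia groups have a normal
Sylow subgroup of `L` modulo `X` -/
theorem count_lin (hA : L ≤ 𝐍[A]) (hB : L ≤ 𝐍[B]) (hBA : B ≤ A) (hab : ⁅A, A⁆ ≤ B)
    (hX : X ⊴ L) (hP : Syl p P L) (h : ∀ μ, IsLin A μ → B ≤ cfker A μ → μ ≠ cf1 A →
      ∃ R, Syl p R L ∧ X ⊔ R ⊴ L ⊓ inertia A μ) :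
    B.relIndex A - 1 = ((B ⊔ ⁅A, X ⊔ P⁆).relIndex A - 1) * 𝐍[X ⊔ P].relIndex L := by
  set K := X ⊔ P
  have hK : ∀ g ∈ L, g •ᶜ K = X ⊔ g •ᶜ P := fun g hg => by rw [conj_sup, hX.conj_eq hg]
  have hc : ∀ C : Subgroup G, B ≤ C → C ≤ A →
      (((irr A).filter fun μ => C ≤ cfker A μ).erase (cf1 A)).card = C.relIndex A - 1 := by
    intro C h1 h2
    rw [Finset.card_erase_of_mem (Finset.mem_filter.2 ⟨cf1_mem_irr A, (cfker_cf1 A).symm ▸ h2⟩),
      card_irr_ker_abelian (sub_der1_normal (hab.trans h1) h2) (hab.trans h1)]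
  have key := Finset.card_mul_eq_card_mul
    (s := ((irr A).filter fun μ => B ≤ cfker A μ).erase (cf1 A))
    (t := (Set.toFinite (L : Set G)).toFinset) (fun μ g => g •ᶜ K ≤ inertia A μ)
    (m := Nat.card ↥(𝐍[K] ⊓ L)) (n := (B ⊔ ⁅A, K⁆).relIndex A - 1) ?_ ?_
  · rw [hc B le_rfl hBA, ← Set.ncard_eq_toFinset_card, ← Nat.card_coe_set_eq] at key
    have h2 : Nat.card ↥(𝐍[K] ⊓ L) * 𝐍[K].relIndex L = Nat.card L := by
      rw [← inf_relIndex_right]; exact card_mul_relIndex inf_le_right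
    refine Nat.eq_of_mul_eq_mul_right (Nat.card_pos (α := ↥(𝐍[K] ⊓ L))) ?_
    rw [key, mul_assoc, mul_comm (relIndex _ L), h2, mul_comm]; rfl
  · intro μ hμ
    obtain ⟨h1, h2⟩ := Finset.mem_erase.1 hμ
    obtain ⟨h2, h3⟩ := Finset.mem_filter.1 h2
    obtain ⟨R, hR, hn⟩ := h μ ((mem_irr.1 h2).isLin_of_le_cfker hab h3) h3 h1
    obtain ⟨g, hg, rfl⟩ := Sylow_trans hP hR
    rw [← Nat.card_eq_finsetCard]
    refine Nat.card_congr ((Equiv.mulLeft g⁻¹).subtypeEquiv fun x => ?_)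
    simp only [Finset.mem_bipartiteAbove, Set.Finite.mem_toFinset, SetLike.mem_coe,
      Equiv.coe_mulLeft, mem_inf]
    refine ⟨fun ⟨hx, e⟩ => ⟨mem_norm_of_conj_le ?_, mul_mem (inv_mem hg) hx⟩, fun ⟨e, hx⟩ => ?_⟩
    · have h5 := (sylJ hx).2 hP
      rw [← conj_conj, ← le_conj_iff, hK g hg, hK x hx]
      exact sup_le le_sup_left (syl_le_of_normal hR h5 inf_le_left hn le_sup_right
        (le_inf h5.le (le_sup_right.trans (hK x hx ▸ e))))
    · refine ⟨by simpa using mul_mem hg hx, ?_⟩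
      rw [← mul_inv_cancel_left g x, ← conj_conj, conj_eq_of_mem_norm e, hK g hg]
      exact hn.le.trans inf_le_right
  · intro g hg
    have hg : g ∈ L := by simpa using hg
    have hn : g •ᶜ K ≤ 𝐍[A] := (conj_le_of_mem hg (sup_le hX.le hP.le)).trans hA
    rw [← relIndex_conj g, conj_sup g B, conj_commutator, conj_eq_of_mem_norm (hA hg),
      conj_eq_of_mem_norm (hB hg), ← hc _ le_sup_left (sup_le hBA (commg_subl.2 hn))]
    congr 1
    ext μ
    simp only [Finset.mem_bipartiteBelow, Finset.mem_erase, Finset.mem_filter, mem_irr, sup_le_iff]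
    exact ⟨fun ⟨⟨h1, h2, h3⟩, h4⟩ =>
      ⟨h1, h2, h3, (lin_le_inertia (h2.isLin_of_le_cfker hab h3) hn).1 h4⟩,
      fun ⟨h1, h2, h3, h4⟩ => ⟨⟨h1, h2, h3⟩, (lin_le_inertia (h2.isLin_of_le_cfker hab h3) hn).2 h4⟩⟩

end Cfsg.FT.Deg
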