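import Cfsg.Agent.Deg.PalfyA
import Cfsg.Agent.Deg.NqC
import Cfsg.Agent.CT.DegGraph

/-! The dual module of an abelian normal subgroup. -/

set_option autoImplicit false
set_option linter.unusedSectionVars false
set_option linter.style.haveILetI false

namespace Cfsg.FT.Deg

open scoped Pointwise commutatorElement
open Subgroup

universe u

variable {G : Type u} [Group G] [Finite G] {L M P R X : Subgroup G} {s p q : ℕ}

theorem cent_of_forall_lin (ha : IsMulCommutative M) {g : G}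
    (h : ∀ l, IsLin M l → g ∈ inertia M l) : g ∈ 𝐂[M] := by
  have hg : ⟪g⟫ ≤ 𝐍[M] := zpowers_le.2 (inertia_le_norm _ _ (h _ (isLin_cf1 M)))
  refine commG1P'.1 ?_ (mem_zpowers g)
  by_contra h0
  obtain ⟨χ, hχ, h1⟩ := exists_irr_not_le_cfker (commg_subl.2 hg) h0
  have h2 := hχ.isLin_of_abelian ha
  exact h1 ((lin_le_inertia h2 hg).1 (zpowers_le.2 (h _ h2)))

theorem exists_dual [Fact s.Prime] (hM : M ⊴ ⊤) (hs : IsPGroup s M) (ha : IsMulCommutative M) :
    ∃ (Γ : Type u) (_ : Group Γ) (_ : Finite Γ) (f : G →* Γ) (V : Subgroup Γ), IsPGroup s V ∧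
      IsMulCommutative V ∧ (⊤ : Subgroup G).map f ≤ 𝐍[V] ∧ (⊤ : Subgroup G).map f ⊓ 𝐂[V] = ⊥ ∧
      f.ker = 𝐂[M] ∧ ∀ v ∈ V, v ≠ 1 → ∃ l, IsLin M l ∧ l ≠ cf1 M ∧
        𝐂₁[v].comap f = inertia M l := by
  haveI := normalIn_top.1 hM
  letI := linConj M
  haveI : Finite (M →* ℂˣ) := Finite.of_injective
    (fun l => (⟨linOf l, mem_irr.2 (isLin_linOf l).isIrr⟩ : irr M))
    fun a b e => linOf_injective (congrArg Subtype.val e)
  let Γ := (M →* ℂˣ) ⋊[MonoidHom.id _] MulAut (M →* ℂˣ)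
  haveI : Finite Γ := Finite.of_equiv _ SemidirectProduct.equivProd.symm
  let f : G →* Γ := SemidirectProduct.inr.comp (MulDistribMulAction.toMulAut G (M →* ℂˣ))
  have h1 : ∀ (a : MulAut (M →* ℂˣ)) l, (SemidirectProduct.inr a : Γ) ∈
      𝐂₁[SemidirectProduct.inl l] ↔ a l = l := fun a l => by
    rw [mem_cent1, ← mul_inv_eq_iff_eq_mul, ← map_inv, ← SemidirectProduct.inl_aut]
    exact SemidirectProduct.inl_injective.eq_iff
  have h2 : ∀ g l, f g ∈ 𝐂₁[SemidirectProduct.inl l] ↔ g ∈ inertia M (linOf l) := fun g l => by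
    refine (h1 _ l).trans ⟨fun e => ⟨hM.norm trivial, ?_⟩, fun e => ?_⟩
    · refine ((isLin_linOf l).isCF.cfConj_norm (hM.norm trivial)).ext (isLin_linOf l).isCF
        fun x hx => ?_
      rw [cfConj_apply, linOf_of_mem _ hx, linOf_of_mem _ ((memJ_norm' (hM.norm trivial)).2 hx),
        ← DFunLike.congr_fun e ⟨x, hx⟩]
      exact congrArg (fun y => ((l y : ℂˣ) : ℂ)) (Subtype.ext (by simp))
    · ext x
      have := congrFun (inertiaJ e) x
      rw [cfConj_apply, linOf_coe, linOf_of_mem _ ((memJ_norm' (hM.norm trivial)).2 x.2)] at this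
      rw [← this]
      exact congrArg (fun y => ((l y : ℂˣ) : ℂ)) (Subtype.ext (by simp))
  have h3 : ∀ a : MulAut (M →* ℂˣ), (SemidirectProduct.inr a : Γ) ∈
      𝐂[(SemidirectProduct.inl : _ →* Γ).range] → a = 1 := fun a e =>
    MulEquiv.ext fun l => (h1 a l).1 (cent_le_cent1 (MonoidHom.mem_range.2 ⟨l, rfl⟩) e)
  refine ⟨Γ, inferInstance, inferInstance, f, SemidirectProduct.inl.range, ?_, ?_, ?_, ?_, ?_, ?_⟩
  · obtain ⟨k, hk⟩ := hs.exists_card_eq
    rintro ⟨_, l, rfl⟩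
    refine ⟨k, Subtype.ext ?_⟩
    have : l ^ s ^ k = 1 := by
      ext x; rw [MonoidHom.pow_apply, ← map_pow, ← hk, pow_card_eq_one', map_one]; rfl
    simp [← map_pow, this]
  · refine abelian_iff_forall.2 ?_
    rintro _ ⟨a, rfl⟩ _ ⟨b, rfl⟩
    rw [← map_mul, ← map_mul, mul_comm a b]
  · rw [SemidirectProduct.range_inl_eq_ker_rightHom, norm_eq_top.2 inferInstance]; exact le_top
  · refine eq_bot_iff.2 ?_
    rintro _ ⟨⟨g, -, rfl⟩, e⟩
    exact (congrArg SemidirectProduct.inr (h3 _ e)).trans (map_one _)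
  · ext g
    refine ⟨fun e => cent_of_forall_lin ha fun l hl => ?_, fun e => ?_⟩
    · obtain ⟨l, rfl⟩ := hl.exists_linOf
      exact (h2 g l).1 (MonoidHom.mem_ker.1 e ▸ one_mem _)
    · refine (congrArg SemidirectProduct.inr (h3 _ ?_)).trans (map_one _)
      rintro _ ⟨l, rfl⟩
      exact (mem_cent1.1 ((h2 g l).2 ((isLin_linOf l).isCF.cent_sub_inertia e))).symm
  · rintro _ ⟨l, rfl⟩ e
    exact ⟨_, isLin_linOf l, fun e' => e (by rw [linOf_injective (e'.trans linOf_one.symm), map_one]),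
      Subgroup.ext fun g => h2 g l⟩

theorem cent_of_cyclic [Fact p.Prime] [Fact q.Prime] (hpq : p ≠ q) (h : ¬ Rho L (p * q))
    (hX : X ⊴ L) (hc : IsCyclic X) : piGen {p} L ≤ 𝐂[X] ∨ piGen {q} L ≤ 𝐂[X] := by
  obtain ⟨l, hl, hk⟩ := exists_faithful_lin hc
  have h1 : L ⊓ inertia X l ≤ 𝐂[X] := commG1P'.1 (le_bot_iff.1 (hk ▸ (commgS X inf_le_right).trans
    ((lin_le_inertia hl (inertia_le_norm _ _)).1 le_rfl)))
  have h2 : ∀ t, ∀ _ : Fact t.Prime, ¬ t ∣ (L ⊓ inertia X l).relIndex L → piGen {t} L ≤ 𝐂[X] :=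
    fun t _ e => have ⟨_, hP, h3⟩ := exists_syl_le inf_le_left e
      piGen_le_of_syl hP (norms_cent hX.norm) (h3.trans h1)
  by_contra! h3
  exact h (rho_of_normal hX hl.isIrr ((((Nat.coprime_primes Fact.out Fact.out).2 hpq).mul_dvd_of_dvd_of_dvd
    (by_contra fun e => h3.1 (h2 p ‹_› e)) (by_contra fun e => h3.2 (h2 q ‹_› e))).mul_right _))

/-- the Sylow `p`-subgroups act nontrivially on `M`, and every nontrivial character of `M` has
a Sylow `p`-subgroup normal in its inertia group modulo the kernel of the action -/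
def DualHyp (M : Subgroup G) (p : ℕ) : Prop :=
  (∃ P, Syl p P ⊤ ∧ ¬ P ≤ 𝐂[M]) ∧ ∀ l, IsLin M l → l ≠ cf1 M →
    ∃ P X, Syl p P ⊤ ∧ X ≤ 𝐂[M] ∧ X ⊔ P ⊴ inertia M l

theorem dual_two_primes [Fact s.Prime] [Fact p.Prime] [Fact q.Prime]
    (hsol : Group.IsSolvable (⊤ : Subgroup G)) (hM : M ⊴ ⊤) (hs : IsPGroup s M)
    (ha : IsMulCommutative M) (hpq : p ≠ q) (h : ¬ Rho (⊤ : Subgroup G) (p * q))
    (hp : DualHyp M p) (hq : DualHyp M q) : False := by
  obtain ⟨Γ, _, _, f, V, h1, h2, h3, h4, h5, h6⟩ := exists_dual hM hs ha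
  have key : ∀ t, ∀ _ : Fact t.Prime, DualHyp M t → NqHyp s t ((⊤ : Subgroup G).map f) V := by
    rintro t _ ⟨⟨P, hP, hc⟩, ht⟩
    refine ⟨h1, h2, h3, h4, by_contra fun e => hc ?_, fun v hv e => ?_⟩
    · exact h5 ▸ (Subgroup.map_eq_bot_iff _).1 ((hP.map f).eq_bot_iff.2 e)
    · obtain ⟨l, hl, h7, h8⟩ := h6 v hv e
      obtain ⟨R, X, hR, hX, hn⟩ := ht l hl h7
      have := hn.map f
      rw [Subgroup.map_sup, (Subgroup.map_eq_bot_iff _).2 (h5 ▸ hX), bot_sup_eq, ← h8, map_comap_eq,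
        MonoidHom.range_eq_map] at this
      exact ⟨_, hR.map f, this⟩
  exact (key p ‹_› hp).two_primes (key q ‹_› hq) hpq (isSolvable_map f hsol) fun X hX hc =>
    cent_of_cyclic hpq (fun e => h (e.pull (morphOnto_map f ⊤))) hX hc

end Cfsg.FT.Deg
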