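import Cfsg.Agent.Deg.PalfyB

/-! Pálfy's three primes theorem. -/

set_option autoImplicit false
set_option linter.unusedSectionVars false
set_option linter.style.haveILetI false

namespace Cfsg.FT.Deg

open scoped Pointwise commutatorElement
open Subgroup

universe u

variable {G : Type u} [Group G] [Finite G] {L M P R S T X : Subgroup G} {s p q r t : ℕ}
  {θ l μ : G → ℂ} {y : G} [hp : Fact p.Prime] [hr : Fact r.Prime]

theorem exists_lin_ne (h : M ≠ ⊥) (ha : IsMulCommutative M) : ∃ l, IsLin M l ∧ l ≠ cf1 M :=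
  (exists_irr_ne_cf1 h).imp fun _ e => ⟨e.1.isLin_of_abelian ha, e.2⟩

theorem dualHyp_of_coprime [Fact s.Prime] (hsol : Group.IsSolvable (⊤ : Subgroup G))
    (hM : MinNormalIn M ⊤) (hs : IsPGroup s M) (hsr : s ≠ r) (hT : Syl r T ⊤) (hn : M ⊔ T ⊴ ⊤)
    (hT' : ⁅T, T⁆ ≤ M) (h1 : Rho (⊤ : Subgroup G) r) (h2 : Rho (⊤ : Subgroup G) p) (hpr : p ≠ r)
    (h : ¬ Rho (⊤ : Subgroup G) (p * r)) : DualHyp M p := by
  have hMn : M ⊴ ⊤ := ⟨le_top, hM.norm⟩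
  have ha := hM.abelian (pgroup_sol hs)
  have hF : M ⊔ 𝐍[T] = ⊤ := by
    rw [eq_top_iff, ← (Frattini_arg hn (hT.subl le_sup_right le_top)).sup_eq]
    exact sup_le (sup_le_sup_left (normG T) M) (inf_le_right.trans le_sup_right)
  have hN : M ⊓ 𝐍[T] = ⊥ := (hM.eq_or inf_le_left (hF ▸ join_norms
    (sub_abelian_norm ha inf_le_left) (normsI (le_top.trans hM.norm) (normG _)))).resolve_right
    fun e => not_rho_of_normal hT ⟨le_top, hF ▸ sup_le (inf_eq_left.1 e) le_rfl⟩ (derG1P.1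
      (le_bot_iff.1 (coprime_TIg (coprime_pgroups hs hT.pgroup hsr) ▸ le_inf hT' (der_sub T)))) h1
  have hc : ⁅M, M ⊔ T⁆ = M := (hM.cents_or hn.norm (le_top.trans hM.norm)).resolve_left fun e =>
    hM.ne_bot (hN ▸ (inf_eq_left.2 (cents_norm (centsC.1 (le_sup_right.trans e)))).symm)
  have key : ∀ l, IsLin M l → l ≠ cf1 M →
      ∃ P, Syl p P ⊤ ∧ M ⊔ P ⊴ inertia M l ∧ ⁅P, P⁆ ≤ M := fun l hl h0 => by
    have hI := hl.isCF.sub_Inertia hMn.le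
    obtain ⟨ξ, hξ, he, -⟩ := extend_lin_sdprod hl (sdprod_modl' (sdprod_of_normal hMn hF hN) hI
      le_top) (inf_le_right.trans inf_le_right)
    have := syl_of_extends hsol hMn hl.isIrr hξ.isChar he
      ((Nat.coprime_primes hp.out hr.out).2 hpr) ((dvd_of_not_le hM.norm hn hT hI le_top fun e =>
        h0 (hl.isIrr.le_cfker_self.1 (hc.ge.trans ((lin_le_inertia hl (le_top.trans hM.norm)).1
          ((sup_le hI e).trans inf_le_right))))).mul_right _) h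
    rwa [top_inf_eq] at this
  obtain ⟨P, hP⟩ := Sylow_exists p (⊤ : Subgroup G)
  refine ⟨⟨P, hP, fun e => ?_⟩, fun l hl h0 => (key l hl h0).imp fun R hR =>
    ⟨M, hR.1, abelian_iff.1 ha, hR.2.1⟩⟩
  obtain ⟨l, hl, h0⟩ := exists_lin_ne hM.ne_bot ha
  obtain ⟨R, hR, h3, h4⟩ := key l hl h0
  have hC : 𝐂[M] ⊴ ⊤ := ⟨le_top, norms_cent hM.norm⟩
  have h5 := sup_syl_normal hM.norm hR le_top h3 hC hP e hl.isCF.cent_sub_inertia
  have h6 : M ⊔ R ≤ 𝐂[M] := sup_le (abelian_iff.1 ha) (syl_le_of_normal hP hR le_rfl hC e le_top)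
  have h7 : ⁅M ⊔ R, M ⊔ R⁆ ≤ M := by
    rw [der1_join]; exact sup_le (sup_le (der_sub M) h4) (hMn.commg_le le_top)
  have h8 : IsMulCommutative ↥(M ⊔ R) := by
    rw [← (sdprod_modl' (sdprod_of_normal hMn hF hN) le_sup_left (le_top (a := M ⊔ R))).sup_eq]
    exact abelianY.2 ⟨ha, derG1P.1 (le_bot_iff.1 (hN ▸ le_inf ((dergS inf_le_right).trans h7)
      ((der_sub _).trans inf_le_left))), inf_le_right.trans h6⟩
  exact not_rho_of_normal hR (char_normal_trans ((hR.subl le_sup_right le_top).char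
    (sub_abelian_normal h8 le_sup_right)) h5) (abelianS le_sup_right h8) h2

theorem syl_of_normal_syl (hs : Group.IsSolvable L) (hR : Syl r R L) (hn : R ⊴ L) (hθ : IsIrr R θ)
    (hpt : p.Coprime t) (ht : t ∣ (L ⊓ inertia R θ).relIndex L * charDegree θ)
    (h : ¬ Rho L (p * t)) : ∃ P, Syl p P L ∧ R ⊔ P ⊴ L ⊓ inertia R θ ∧ ⁅P, P⁆ ≤ R :=
  have hI := hθ.isCF.sub_Inertia hn.le
  have ⟨_, hξ, he⟩ := extend_coprime hθ hI inf_le_right (hR.subl hI inf_le_left).hall.coprime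
  syl_of_extends hs hn hθ hξ.isChar he hpt ht h

theorem exists_inv_over (hM : M ≤ R) (hab : ⁅R, R⁆ ≤ M) (hR : S ≤ 𝐍[R])
    (hc : (M.relIndex R).Coprime (R.relIndex S)) (hθ : IsIrr M θ) (hI : S ≤ inertia M θ) :
    ∃ χ, IsIrr R χ ∧ dot M χ θ ≠ 0 ∧ S ≤ inertia R χ := by
  haveI := Fintype.ofFinite M
  obtain ⟨χ, h1, h2⟩ := exists_invariant_over_of_commutator_le hM hab hR
    (hI.trans (inertia_le_norm _ _)) hc hθ.toIrr fun s hs g g' e => by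
      rw [hθ.toIrr_apply, hθ.toIrr_apply, e, inertia_valJ (hI hs)]
  have h3 := isIrr_extendByZero χ
  refine ⟨_, h3, ?_, fun s hs => mem_inertia_of_forall (fun _ => h3.isCF.off) (hR hs)
    fun x hx => ?_⟩
  · rw [dot_eq]
    convert h1 using 2
    exacts [funext fun n => extendByZero_coe _ _ (⟨n, hM n.2⟩ : R), rfl]
  · exact (extendByZero_coe _ _ ⟨_, (memJ_norm (hR hs)).2 hx⟩).trans
      ((h2 s hs ⟨x, hx⟩ _ rfl).trans (extendByZero_coe _ _ ⟨x, hx⟩).symm)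

/-- a normal Sylow `r`-subgroup of class two whose derived group is minimal normal -/
structure Two (r : ℕ) (M R : Subgroup G) : Prop where
  sol : Group.IsSolvable (⊤ : Subgroup G)
  min : MinNormalIn M ⊤
  syl : Syl r R ⊤
  nor : R ⊴ ⊤
  der : ⁅R, R⁆ = M
  cen : R ≤ 𝐂[M]

namespace Two

variable (h : Two r M R) (hpr : p ≠ r) (hn : ¬ Rho (⊤ : Subgroup G) (p * r))
include h

theorem le : M ≤ R := h.der ▸ der_sub R

theorem ab : IsMulCommutative M := abelian_iff.2 (h.le.trans h.cen)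

include hpr

theorem cop (hP : Syl p P ⊤) (hX : X ≤ R) : (Nat.card X).Coprime (Nat.card P) :=
  coprime_pgroups (h.syl.pgroup.to_le hX) hP.pgroup hpr.symm

theorem stab (hP : Syl p P ⊤) (hc : P ≤ 𝐂[M]) : R ⊓ commStab P M ≤ 𝐂[P] := by
  have h1 : ⁅R ⊓ commStab P M, P⁆ ≤ M := (le_commStab.1 inf_le_right).2
  have h2 : M ≤ R ⊓ commStab P M :=
    le_inf h.le (le_commStab.2 ⟨normG M, commg_subl.2 (cents_norm hc)⟩)
  exact centsC.1 (coprime_commGG1P (commg_subl.1 (h1.trans h2)) (h.cop hpr hP inf_le_left)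
    (commG1P'.2 (centsS h1 hc)))

theorem exists_lin (hP : Syl p P ⊤) (hc : P ≤ 𝐂[M]) (h0 : ¬ P ≤ 𝐂[R]) :
    ∃ μ, IsLin R μ ∧ ¬ P ≤ inertia R μ := by
  have hN := hP.le.trans h.nor.norm
  obtain ⟨μ, h1, -, h2⟩ := exists_lin_le_cfker_not_le h.der.le h.le (commg_subl.2 hN) fun e =>
    h0 (centsC.1 ((le_inf le_rfl (le_commStab.2 ⟨cents_norm h.cen, e⟩)).trans (h.stab hpr hP hc)))
  exact ⟨μ, h1, fun e => h2 ((lin_le_inertia h1 hN).1 e)⟩

include hn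

theorem nonlin (hθ : IsIrr R θ) (h0 : ¬ IsLin R θ) :
    ∃ P, Syl p P ⊤ ∧ R ⊔ P ⊴ inertia R θ ∧ ⁅P, P⁆ ≤ R := by
  obtain ⟨k, hk⟩ := hθ.exists_charDegree_eq_pow h.syl.pgroup
  have := syl_of_normal_syl h.sol h.syl h.nor hθ ((Nat.coprime_primes hp.out hr.out).2 hpr)
    (Dvd.dvd.mul_left (hk ▸ dvd_pow_self r fun e => h0 (hθ.isLin_iff.2 (by simp [hk, e]))) _) hn
  rwa [top_inf_eq] at this

theorem lin (hl : IsLin M l) (h0 : l ≠ cf1 M) :
    ∃ P, Syl p P ⊤ ∧ R ⊔ P ⊴ inertia M l ∧ ⁅P, P⁆ ≤ R := by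
  have hI := h.cen.trans hl.isCF.cent_sub_inertia
  obtain ⟨θ, hθ, h1, h2⟩ := exists_inv_over h.le h.der.le (le_top.trans h.nor.norm)
    ((h.syl.subl hI le_top).hall.coprime.coprime_dvd_left (relIndex_dvd_card _ _)) hl.isIrr le_rfl
  have h3 : inertia R θ ≤ inertia M l := by
    rw [← inertia_smul h1 l, ← clifford_invariant h.le hθ hl.isIrr hI h1]
    exact (le_inf le_rfl (le_top.trans h.min.norm)).trans (inertia_le_inertia_Res θ)
  rw [le_antisymm h2 h3]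
  exact h.nonlin hpr hn hθ fun e => h0 (hl.isIrr.le_cfker_self.1 ((hθ.le_cfker_iff_of_over hl.isIrr
    h.le h1 le_rfl (cents_norm h.cen)).2 (h.der ▸ e.der_le_cfker)))

theorem dualHyp (hP : Syl p P ⊤) (hc : ¬ P ≤ 𝐂[M]) : DualHyp M p :=
  ⟨⟨P, hP, hc⟩, fun _ hl h0 => (h.lin hpr hn hl h0).imp fun _ e => ⟨R, e.1, h.cen, e.2.1⟩⟩

theorem cent (hP : Syl p P ⊤) (hc : P ≤ 𝐂[M]) (h1 : Rho (⊤ : Subgroup G) p) :
    R ⊔ P ⊴ ⊤ ∧ ¬ P ≤ 𝐂[R] := by
  obtain ⟨l, hl, h0⟩ := exists_lin_ne h.min.ne_bot h.ab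
  obtain ⟨S, hS, h2, h3⟩ := h.lin hpr hn hl h0
  have h4 := sup_syl_normal h.nor.norm hS le_top h2 ⟨le_top, norms_cent h.min.norm⟩ hP hc
    hl.isCF.cent_sub_inertia
  refine ⟨sup_syl_eq h.nor.norm h4 hS hP ▸ h4, fun e => not_rho_of_normal hS
    (char_normal_trans ((hS.subl le_sup_right le_top).char (normalYr (cents_norm (centsC.1
      (syl_le_of_normal hP hS le_rfl ⟨le_top, norms_cent h.nor.norm⟩ e le_top))))) h4) (derG1P.1
      (le_bot_iff.1 (coprime_TIg (h.cop hpr hS le_rfl) ▸ le_inf h3 (der_sub S)))) h1⟩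

theorem vanish (hP : Syl p P ⊤) (hc : P ≤ 𝐂[M]) (hPn : R ⊔ P ⊴ ⊤) (hθ : IsIrr R θ)
    (h0 : ¬ IsLin R θ) (hy : y ∈ R) (hy' : y ∉ 𝐂[P]) : θ y = 0 := by
  have key : ∀ θ, IsIrr R θ → ¬ IsLin R θ → P ≤ inertia R θ := fun θ hθ h0 =>
    have ⟨_, hS, h1, _⟩ := h.nonlin hpr hn hθ h0
    le_sup_right.trans ((sup_syl_eq h.nor.norm hPn hP hS).symm.trans_le h1.le)
  refine by_contra fun e => hy' (h.stab hpr hP hc ⟨hy, cents_norm h.cen hy, fun x hx => ?_⟩)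
  have hx' : x * y * x⁻¹ ∈ R := h.nor.conj_mem trivial hy
  have e1 : ⁅y, x⁆ = y * (x * y * x⁻¹)⁻¹ := by rw [commutatorElement_def]; group
  by_contra h1
  obtain ⟨μ, hμ, -, h2⟩ := exists_lin_le_cfker_notMem h.der.le h.le
    (e1 ▸ mul_mem hy (inv_mem hx')) h1
  have h3 := inertia_valJ (key _ (hμ.mul_irr hθ) (fun e =>
    h0 (hμ.star_mul_cancel hθ.isCF ▸ hμ.star.mul e)) hx) y
  rw [Pi.mul_apply, Pi.mul_apply, inertia_valJ (key θ hθ h0 hx), mul_left_inj' e] at h3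
  exact h2 (by rw [e1, hμ.map_mul_left hy, hμ.map_inv hx', h3, mul_inv_cancel₀ (hμ.apply_ne_zero hy)])

theorem card_lt (hP : Syl p P ⊤) (hc : P ≤ 𝐂[M]) (hPn : R ⊔ P ⊴ ⊤) (h0 : ¬ P ≤ 𝐂[R]) :
    Nat.card ↥(R ⊓ 𝐂[P]) < M.relIndex R := by
  classical
  have hN := hP.le.trans h.nor.norm
  obtain ⟨y, hy, hy'⟩ := SetLike.not_le_iff_exists.1 fun e : ⁅R, P⁆ ≤ 𝐂[P] =>
    h0 (coprime_commGG1P hN (h.cop hpr hP le_rfl) (commG1P.2 e))
  have hyR := commg_subl.2 hN hy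
  have h1 : ⁅R, P⁆ ≤ 𝐂[R ⊓ 𝐂[P]] := commG1P.1 (three_subgroup
    (by rw [commG1P'.2 (inf_le_right : R ⊓ 𝐂[P] ≤ _), Subgroup.commutator_bot_left])
    (commG1P'.2 (centsS ((commSg R inf_le_left).trans h.der.le) hc)))
  have h2 := sum_irr_norm_sq hyR
  rw [← Finset.sum_filter_of_ne (p := IsLin R) fun χ hχ e => by_contra fun e' =>
      e (by rw [h.vanish hpr hn hP hc hPn (mem_irr.1 hχ) e' hyR hy']; simp),
    Finset.sum_congr rfl (g := fun _ => 1) fun χ hχ => by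
      rw [(Finset.mem_filter.1 hχ).2.norm_eq hyR, one_pow], Finset.sum_const, nsmul_one,
    card_lin_irr, h.der, Nat.cast_inj] at h2
  rw [h2]
  exact card_lt_of_lt (lt_of_le_not_ge (le_inf inf_le_left (le_cent1.2 (h1 hy)))
    fun e => hy' (e ⟨hyR, cent1id y⟩).2)

end Two

theorem Two.false [hq : Fact q.Prime] {Q : Subgroup G} (h : Two r M R) (hpq : p ≠ q) (hpr : p ≠ r)
    (hqr : q ≠ r) (h1 : Rho (⊤ : Subgroup G) p) (hn : ¬ Rho (⊤ : Subgroup G) (p * r))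
    (hn' : ¬ Rho (⊤ : Subgroup G) (q * r)) (hn'' : ¬ Rho (⊤ : Subgroup G) (q * p))
    (hP : Syl p P ⊤) (hQ : Syl q Q ⊤) (hc : P ≤ 𝐂[M]) (hc' : ¬ Q ≤ 𝐂[M]) : False := by
  obtain ⟨hPn, h0⟩ := h.cent hpr hn hP hc h1
  have hN := hP.le.trans h.nor.norm
  have hM : M ≤ R ⊓ 𝐂[P] := le_inf h.le (centsC.1 hc)
  have h2 : ⊤ ≤ 𝐍[R ⊓ 𝐂[P]] := by
    have := normsI (le_top.trans h.nor.norm) (cent_norm P)
    rw [← (Frattini_arg hPn (hP.subl le_sup_right le_top)).sup_eq]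
    exact sup_le (sup_le (sub_der1_norm (h.der.le.trans hM) inf_le_left) ((normG P).trans this))
      (inf_le_right.trans this)
  have c1 := count_lin h.min.norm (norms1 _) bot_le (derG1P.2 h.ab).le h.nor hQ fun l hl _ e =>
    (h.lin hqr hn' hl e).imp fun _ e' => ⟨e'.1, (top_inf_eq (inertia M l)).symm ▸ e'.2.1⟩
  have c2 := count_lin h.nor.norm h2 inf_le_left (h.der.le.trans hM) h.nor hQ fun μ hμ e e' =>
    (syl_of_normal_syl h.sol h.syl h.nor hμ.isIrr ((Nat.coprime_primes hq.out hp.out).2 hpq.symm)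
      ((dvd_of_not_le h.nor.norm hPn hP (hμ.isCF.sub_Inertia le_top) le_top fun h3 =>
        e' (hμ.isIrr.le_cfker_self.1 ((coprime_cent_prod hN (h.cop hpr hP le_rfl)
          (Or.inr (pgroup_sol hP.pgroup))).ge.trans (sup_le ((lin_le_inertia hμ hN).1
            (h3.trans inf_le_right)) e)))).mul_right _) hn'').imp fun _ e => ⟨e.1, e.2.1⟩
  have hM' := h.syl.pgroup.to_le h.le
  obtain ⟨x, hx⟩ := hM'.index ((⊥ : Subgroup G).subgroupOf M)
  obtain ⟨a, ha⟩ := hM'.index ((⊥ ⊔ ⁅M, R ⊔ Q⁆).subgroupOf M)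
  obtain ⟨y, hy⟩ := h.syl.pgroup.index ((R ⊓ 𝐂[P]).subgroupOf R)
  obtain ⟨b, hb⟩ := h.syl.pgroup.index ((R ⊓ 𝐂[P] ⊔ ⁅R, R ⊔ Q⁆).subgroupOf R)
  change relIndex _ _ = _ at hx ha hy hb
  have hx0 : 0 < x := Nat.pos_of_ne_zero fun e => h.min.ne_bot (le_bot_iff.1
    (relIndex_eq_one.1 (by rw [hx, e, pow_zero])))
  have hy0 : 0 < y := Nat.pos_of_ne_zero fun e => h0 (centsC.1 ((relIndex_eq_one.1
    (by rw [hy, e, pow_zero])).trans inf_le_right))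
  have h4 : 1 < 𝐍[R ⊔ Q].relIndex ⊤ := lt_of_le_of_ne (relIndex_pos _ _) fun e => by
    rw [(h.min.cents_or (relIndex_eq_one.1 e.symm) (le_top.trans h.min.norm)).resolve_left
      fun e => hc' (le_sup_right.trans e), bot_sup_eq, relIndex_self, hx] at c1
    have := Nat.one_lt_pow hx0.ne' hr.out.one_lt
    omega
  rw [hx, ha] at c1
  rw [hy, hb] at c2
  obtain ⟨-, rfl⟩ := pow_eq_of_count hr.out.one_lt h4 hx0 hy0 c1 c2
  have h5 := h.card_lt hpr hn hP hc hPn h0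
  have h6 := card_mul_relIndex (inf_le_left : R ⊓ 𝐂[P] ≤ R)
  rw [hy, ← hx, relIndex_bot_left, ← card_mul_relIndex h.le, mul_comm] at h6
  exact h5.ne (Nat.eq_of_mul_eq_mul_left Nat.card_pos h6)

theorem Two.false' [hq : Fact q.Prime] (h : Two r M R) (hpq : p ≠ q) (hpr : p ≠ r)
    (hqr : q ≠ r) (h1 : Rho (⊤ : Subgroup G) p) (h2 : Rho (⊤ : Subgroup G) q)
    (hn : ¬ Rho (⊤ : Subgroup G) (p * r)) (hn' : ¬ Rho (⊤ : Subgroup G) (q * r))
    (hn'' : ¬ Rho (⊤ : Subgroup G) (p * q)) : False := by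
  obtain ⟨P, hP⟩ := Sylow_exists p (⊤ : Subgroup G)
  obtain ⟨Q, hQ⟩ := Sylow_exists q (⊤ : Subgroup G)
  by_cases hc : P ≤ 𝐂[M] <;> by_cases hc' : Q ≤ 𝐂[M]
  · obtain ⟨h3, h4⟩ := h.cent hpr hn hP hc h1
    obtain ⟨h5, h6⟩ := h.cent hqr hn' hQ hc' h2
    obtain ⟨μ, hμ, h7⟩ := h.exists_lin hpr hP hc h4
    obtain ⟨ν, hν, h8⟩ := h.exists_lin hqr hQ hc' h6
    have key : ∀ μ, IsLin R μ → ¬ P ≤ inertia R μ → Q ≤ inertia R μ := fun μ hμ e =>
      have hI := hμ.isCF.sub_Inertia le_top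
      by_contra fun e' => hn'' (rho_of_normal h.nor hμ.isIrr
        ((((Nat.coprime_primes hp.out hq.out).2 hpq).mul_dvd_of_dvd_of_dvd
          (dvd_of_not_le h.nor.norm h3 hP hI le_top fun e1 => e (e1.trans inf_le_right))
          (dvd_of_not_le h.nor.norm h5 hQ hI le_top fun e1 => e' (e1.trans inf_le_right))).mul_right _))
    have key2 : ∀ {μ ν}, IsLin R μ → IsLin R ν → inertia R (μ * ν) ⊓ inertia R μ ≤ inertia R ν :=
      fun {μ ν} hμ hν => by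
        rw [inf_comm, ← inertia_star μ]
        exact (inertia_mul _ _).trans_eq (by rw [hμ.star_mul_cancel hν.isCF])
    exact h8 ((le_inf (key _ (hμ.mul hν) fun e => h7 ((le_inf (mul_comm μ ν ▸ e)
      (by_contra fun e' => h8 (key ν hν e'))).trans (key2 hν hμ))) (key μ hμ h7)).trans (key2 hμ hν))
  · exact h.false hpq hpr hqr h1 hn hn' (rho_comm.not.1 hn'') hP hQ hc hc'
  · exact h.false hpq.symm hqr hpr h2 hn' hn hn'' hQ hP hc' hc
  · exact dual_two_primes h.sol ⟨le_top, h.min.norm⟩ (h.syl.pgroup.to_le h.le) h.ab hpq hn''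
      (h.dualHyp hpr hn hP hc) (h.dualHyp hqr hn' hQ hc')

theorem palfy_step [hq : Fact q.Prime] (hsol : Group.IsSolvable (⊤ : Subgroup G))
    (hM : MinNormalIn M ⊤) (hpq : p ≠ q) (hpr : p ≠ r) (hqr : q ≠ r)
    (h1 : Rho (⊤ : Subgroup G) p) (h2 : Rho (⊤ : Subgroup G) q) (h3 : Rho (⊤ : Subgroup G) r)
    (hn : ¬ Rho (⊤ : Subgroup G) (p * r)) (hn' : ¬ Rho (⊤ : Subgroup G) (q * r))
    (hn'' : ¬ Rho (⊤ : Subgroup G) (p * q)) (h : ¬ Rho (⊤ ⁄ M) r) : False := by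
  have hMn : M ⊴ ⊤ := ⟨le_top, hM.norm⟩
  obtain ⟨s, hs, hM'⟩ := minnormal_solvable_abelem hM (solvableS le_top hsol)
  haveI := Fact.mk hs
  have hsM : IsPGroup s M := hM'.isPGroup
  obtain ⟨T, hT⟩ := Sylow_exists r (⊤ : Subgroup G)
  obtain ⟨h4, h5⟩ := ito_quo hsol hMn h hT
  by_cases hsr : s = r
  · subst hsr
    rw [sup_eq_right.2 (hT.le_of_normal hsM hMn)] at h4
    exact Two.false' ⟨hsol, hM, hT, h4, hM.eq h5 h4.der.norm fun e =>
      not_rho_of_normal hT h4 (derG1P.1 e) h3, hM.pgroup_cents hsM hT.pgroup h4.norm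
        (le_top.trans hM.norm)⟩ hpq hpr hqr h1 h2 hn hn' hn''
  · exact dual_two_primes hsol hMn hsM hM'.1 hpq hn''
      (dualHyp_of_coprime hsol hM hsM hsr hT h4 h5 h3 h1 hpr hn)
      (dualHyp_of_coprime hsol hM hsM hsr hT h4 h5 h3 h2 hqr hn')

theorem palfy_top [hq : Fact q.Prime] (hpq : p ≠ q) (hpr : p ≠ r) (hqr : q ≠ r) (n : ℕ) :
    ∀ (G : Type u) [Group G] [Finite G], Nat.card (⊤ : Subgroup G) < n →
      Group.IsSolvable (⊤ : Subgroup G) → Rho (⊤ : Subgroup G) p → Rho (⊤ : Subgroup G) q →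
      Rho (⊤ : Subgroup G) r → Rho (⊤ : Subgroup G) (p * q) ∨ Rho (⊤ : Subgroup G) (q * r) ∨
        Rho (⊤ : Subgroup G) (p * r) := by
  induction n with
  | zero => intro G _ _ h; omega
  | succ n ih =>
    intro G _ _ hn hsol h1 h2 h3
    by_contra! h4
    obtain ⟨M, hM, -⟩ := minnormal_exists (U := ⊤) (fun e => not_rho_of_normal
      (syl_bot (H := ⊤) (by rw [e]; simpa using hp.out.ne_one)) (normal1 _) abelian_bot h1) (normsT ⊤)
    have hq : ∀ m, Rho (⊤ : Subgroup (Q M)) m → Rho (⊤ : Subgroup G) m := fun m e =>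
      (quotientT M ▸ e).pull (morphOnto_coset hM.norm)
    have h5 := ltn_quotient hM.ne_bot (le_top (a := M))
    have h6 := quotient_sol M hsol
    rw [quotientT] at h5 h6
    by_cases e1 : Rho (⊤ ⁄ M) p
    · by_cases e2 : Rho (⊤ ⁄ M) q
      · by_cases e3 : Rho (⊤ ⁄ M) r
        · rw [quotientT] at e1 e2 e3
          rcases ih (Q M) (by omega) h6 e1 e2 e3 with e | e | e
          exacts [h4.1 (hq _ e), h4.2.1 (hq _ e), h4.2.2 (hq _ e)]
        · exact palfy_step hsol hM hpq hpr hqr h1 h2 h3 h4.2.2 h4.2.1 h4.1 e3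
      · exact palfy_step hsol hM hpr hpq hqr.symm h1 h3 h2 h4.1 (rho_comm.not.1 h4.2.1) h4.2.2 e2
    · exact palfy_step hsol hM hqr hpq.symm hpr.symm h2 h3 h1 (rho_comm.not.1 h4.1)
        (rho_comm.not.1 h4.2.2) h4.2.1 e1

theorem rho_top {n : ℕ} : Rho (⊤ : Subgroup G) n ↔ ∃ χ : IrrCharacter G, n ∣ charDegree χ.1 := by
  rw [rho_iff]
  exact ⟨fun ⟨χ, h⟩ => ⟨⟨_, χ.2.comp_surjective (topEquiv (G := G)).symm.toMonoidHom
    topEquiv.symm.surjective⟩, by simpa [charDegree] using h⟩, fun ⟨χ, h⟩ => ⟨⟨_, χ.2.comp_surjective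
      (topEquiv (G := G)).toMonoidHom topEquiv.surjective⟩, by simpa [charDegree] using h⟩⟩

end Cfsg.FT.Deg
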